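import Groth.Agent.Five86.Core

/-!
# The generic point is not a T-point
-/

set_option autoImplicit false
set_option maxHeartbeats 1000000

noncomputable section

namespace Groth.Agent.Five86

open MvPolynomial TPt86

attribute [local irreducible] T3

variable {K : Type*} [Field K] {Ω : Type*} [Field Ω] [Algebra K Ω] [CharZero Ω] [IsAlgClosed Ω]

namespace Generic

variable {F : MvPolynomial (Fin 4) K} {ξ : Fin 4 → Ω}

theorem rank_zero (h : Generic F ξ) (hB : ∀ t t', Tv F ξ t = 0 → Tv F ξ t' = 0 → T3 F ξ t t' = 0) : False := by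
  obtain ⟨m, hm⟩ := h.smooth
  let n : Fin 4 → Ω := Pi.single m 1
  have hn : Tv F ξ n ≠ 0 := by rwa [← gv_eq_Tv]
  let g : Fin 4 → Ω := fun i => Tv F ξ (Pi.single i 1) / Tv F ξ n
  have hconst : ∀ i, g i ∈ Set.range (algebraMap K Ω) := fun i => h.const _ fun D => by
    have hval : ∀ x, D (T3 F ξ ξ x) = 2 * T3 F ξ (⇑D ∘ ξ) x + T3 F ξ ξ (⇑D ∘ x) := fun x => by
      rw [h.D_eq, h.symm12 (⇑D ∘ ξ) ξ]; ring
    obtain ⟨c, hc⟩ := h.exists_scalar (a := ξ) (b := ⇑D ∘ ξ) fun t ht => hB _ _ (h.Dξ_mem D) ht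
    have hs : ∀ l, ⇑D ∘ (Pi.single l 1 : Fin 4 → Ω) = (0 : Fin 4 → Ω) := fun l => funext fun r => by
      by_cases hr : r = l <;> simp [Pi.single_apply, hr]
    have key : ∀ l, D (Tv F ξ (Pi.single l 1)) = c * Tv F ξ (Pi.single l 1) := fun l => by
      have h1 := hval (Pi.single l 1)
      have h0 : T3 F ξ ξ (0 : Fin 4 → Ω) = 0 := by rw [← zero_smul Ω ξ, h.smul3, zero_mul]
      have h2 : D (2 : Ω) = 0 := by
        rw [show (2 : Ω) = algebraMap K Ω 2 by rw [map_ofNat], Derivation.map_algebraMap]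
      rw [hs, h0, hc, h.ξξ, Derivation.leibniz, h2] at h1
      simp only [smul_eq_mul, mul_zero, add_zero] at h1
      linear_combination h1 / 2
    simp only [g, div_eq_mul_inv, Derivation.leibniz, Derivation.leibniz_inv, smul_eq_mul, key, n]
    field_simp
    ring
  choose gK hgK using hconst
  have hsum : aeval ξ (∑ i, C (gK i) * X i) = 0 := by
    simp only [map_sum, map_mul, aeval_C, aeval_X, hgK, g, div_mul_eq_mul_div, ← Finset.sum_div]
    rw [show ∑ i, Tv F ξ (Pi.single i 1) * ξ i = Tv F ξ ξ from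
      Finset.sum_congr rfl fun i _ => by rw [← gv_eq_Tv], h.Tvξξ, zero_div]
  have h0 := h.small 1 _ (by norm_num)
    (IsHomogeneous.sum _ _ _ fun i _ => IsHomogeneous.C_mul (isHomogeneous_X K i) _) hsum
  have := congrArg (aeval (R := K) (Pi.single m (1 : Ω))) h0
  simp only [map_sum, map_mul, aeval_C, aeval_X, map_zero, Pi.single_apply, mul_ite, mul_one, mul_zero,
    Finset.sum_ite_eq', Finset.mem_univ, if_true, hgK, g] at this
  exact (div_ne_zero hn hn) this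

theorem rank_two (h : Generic F ξ) (u w : Fin 4 → Ω) (hu : Tv F ξ u = 0) (hw : Tv F ξ w = 0)
    (huu : ∀ t, Tv F ξ t = 0 → T3 F u u t = 0) (hww : ∀ t, Tv F ξ t = 0 → T3 F w w t = 0)
    (hA : T3 F ξ w u ≠ 0) : False := by
  have key : ∀ u w : Fin 4 → Ω, Tv F ξ u = 0 → Tv F ξ w = 0 → (∀ t, Tv F ξ t = 0 → T3 F w w t = 0) →
      T3 F ξ w u ≠ 0 → ∃ D : Derivation K Ω Ω, Tv F ξ (⇑D ∘ w) ≠ 0 ∧ ∀ x, T3 F w w x = 0 := by
    intro u w hu hw hww hA
    obtain ⟨D, hD⟩ := h.lift u hu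
    have h1 := h.D_zero D (show T3 F ξ ξ w = 0 by rw [h.ξξ, hw, mul_zero])
    rw [hD, h.ξξ, h.symm12 u ξ] at h1
    have hne : Tv F ξ (⇑D ∘ w) ≠ 0 := fun h0 => hA (by
      rw [h.symm23]
      rw [h0] at h1
      linear_combination h1 / 2)
    have h2 := h.D_zero D (hww w hw)
    rw [h.symm12 (⇑D ∘ w) w, h.symm23 w (⇑D ∘ w) w] at h2
    exact ⟨D, hne, h.kill hne hww (by linear_combination h2 / 3)⟩
  obtain ⟨D, hne, hw0⟩ := key u w hu hw hww hA
  obtain ⟨_, _, hu0⟩ := key w u hw hu huu (by rwa [h.symm23])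
  set w1 := ⇑D ∘ w with hw1
  by_cases hd : ∀ z, T3 F w1 w1 z = 0
  · have a1 : ∀ x, T3 F w w1 x = 0 := fun x => by
      have h0 := h.D_zero D (hw0 x)
      rw [← hw1, hw0, add_zero, h.symm12 w1 w] at h0
      linear_combination h0 / 2
    let v : Fin 3 → Fin 4 → Ω := ![w, u, w1]
    have hv : LinearIndependent Ω v := by
      rw [Fintype.linearIndependent_iff]
      intro g hg
      have hg' : g 0 • w + (g 1 • u + g 2 • w1) = 0 := by
        rw [← hg, Fin.sum_univ_three]; simp [v, add_assoc]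
      have c2 : g 2 = 0 := by
        have := congrArg (Tv F ξ) hg'
        rw [Tv_add_right, Tv_add_right, Tv_smul_right, Tv_smul_right, Tv_smul_right, hw, hu] at this
        have hz : Tv F ξ (0 : Fin 4 → Ω) = 0 := by simp [Tv]
        rw [hz] at this
        exact (mul_eq_zero.mp (by linear_combination this : g 2 * Tv F ξ w1 = 0)).resolve_right hne
      rw [c2, zero_smul, add_zero] at hg'
      have c1 : g 1 = 0 := by
        have h1 : T3 F ξ w (g 0 • w + g 1 • u) = 0 := by rw [hg', ← zero_smul Ω ξ, h.smul3, zero_mul]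
        rw [h.add3, h.smul3, h.smul3, h.symm12 ξ w w, h.symm23 w ξ w, hw0, mul_zero, zero_add] at h1
        exact (mul_eq_zero.mp h1).resolve_right hA
      have c0 : g 0 = 0 := by
        rw [c1, zero_smul, add_zero] at hg'
        refine (smul_eq_zero.mp hg').resolve_right fun h0 => hA ?_
        rw [h0, ← zero_smul Ω ξ, h.smul2, zero_mul]
      intro i; fin_cases i <;> assumption
    refine h.no_plane v hv fun i j l => ?_
    have y1 := hw0 w
    have y2 := hw0 u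
    have y3 := hw0 w1
    have y4 := a1 u
    have y5 := a1 w1
    have y6 := hu0 u
    have y7 : T3 F w u u = 0 := by rw [h.symm12, h.symm23]; exact hu0 w
    have y8 := hu0 w1
    have y9 := hd u
    have y10 := hd w1
    fin_cases i <;> fin_cases j <;> fin_cases l <;> simp only [v, Fin.zero_eta, Fin.mk_one, Fin.reduceFinMk,
      Matrix.cons_val] <;>
      first
        | with_reducible assumption
        | (rw [h.symm23]; with_reducible assumption)
        | (rw [h.symm12]; with_reducible assumption)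
        | (rw [h.symm12, h.symm23]; with_reducible assumption)
        | (rw [h.symm23, h.symm12]; with_reducible assumption)
        | (rw [h.symm12, h.symm23, h.symm12]; with_reducible assumption)
  · push Not at hd
    obtain ⟨z, hz⟩ := hd
    exact h.singular_moving hw0 D hz

theorem rank_one (h : Generic F ξ) (w₀ : Fin 4 → Ω) (hw₀ : Tv F ξ w₀ = 0) (hnp : ∀ c : Ω, w₀ ≠ c • ξ)
    (h1 : ∀ t, Tv F ξ t = 0 → T3 F ξ w₀ t = 0) (h2 : ∀ t, Tv F ξ t = 0 → T3 F w₀ w₀ t = 0)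
    (hker : ∀ t, Tv F ξ t = 0 → T3 F ξ t t = 0 → ∃ a b : Ω, t = a • ξ + b • w₀) : False := by
  obtain ⟨c, hc⟩ := h.exists_scalar h1
  obtain ⟨e, he⟩ := h.exists_scalar h2
  obtain ⟨r, hr⟩ := IsAlgClosed.exists_eq_mul_self (c ^ 2 - 2 * e)
  let s : Ω := (-c + r) / 2
  let w' : Fin 4 → Ω := w₀ + s • ξ
  obtain ⟨j, hj⟩ : ∃ j, w' j ≠ 0 := by
    by_contra! hall
    exact hnp (-s) (by rw [neg_smul, eq_neg_iff_add_eq_zero]; exact funext hall)
  obtain ⟨w, hwdef⟩ : ∃ w : Fin 4 → Ω, w = (w' j)⁻¹ • w' := ⟨_, rfl⟩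
  have hwj : w j = 1 := by simp [hwdef, hj]
  have hTw : Tv F ξ w = 0 := by simp [hwdef, w', Tv_smul_right, Tv_add_right, hw₀, h.Tvξξ]
  have hξw : ∀ x, T3 F w ξ x = (w' j)⁻¹ * ((c + 2 * s) * Tv F ξ x) := fun x => by
    simp only [hwdef, w', T3_smul, T3_add, h.symm12 w₀ ξ, hc, h.ξξ]
    ring
  have hww : ∀ x, T3 F w w x = 0 := fun x => by
    simp only [hwdef, w', T3_smul, T3_add, h.smul2, h.add2, h.symm12 w₀ ξ, hc, he, h.ξξ, s]
    linear_combination -(((w₀ + ((-c + r) / 2) • ξ) j)⁻¹ ^ 2 * Tv F ξ x / 2) * hr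
  by_cases hconst : ∀ D : Derivation K Ω Ω, ⇑D ∘ w = 0
  · have hK : ∀ i, w i ∈ Set.range (algebraMap K Ω) := fun i => h.const _ fun D => congrFun (hconst D) i
    choose wK hwK using hK
    refine h.noCone ⟨wK, fun h0 => ?_, h.small 2 _ (by norm_num) ?_ ?_⟩
    · have := hwK j
      rw [h0, hwj] at this
      simp at this
    · refine IsHomogeneous.sum _ _ _ fun i _ => ?_
      rw [smul_eq_C_mul]
      exact IsHomogeneous.C_mul (by simpa using h.hom.pderiv (i := i)) _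
    · rw [← hTw]
      simp [Tv, gv, Algebra.smul_def, hwK, mul_comm]
  · push Not at hconst
    obtain ⟨D, hD⟩ := hconst
    set w1 := ⇑D ∘ w with hw1
    by_cases hd : ∀ z, T3 F w1 w1 z = 0
    · have a1 : ∀ x, T3 F w w1 x = 0 := fun x => by
        have h0 := h.D_zero D (hww x)
        rw [← hw1, hww, add_zero, h.symm12 w1 w] at h0
        linear_combination h0 / 2
      have hT1 : Tv F ξ w1 = 0 := by
        have h0 := h.D_zero D (show T3 F ξ ξ w = 0 by rw [h.ξξ, hTw, mul_zero])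
        rw [← hw1, h.ξξ, h.symm12 (⇑D ∘ ξ) ξ, h.symm23 ξ (⇑D ∘ ξ) w, h.symm12 ξ w, hξw, h.Dξ_mem] at h0
        linear_combination h0 / 2
      obtain ⟨a, b, hab⟩ := hker w1 hT1 (by rw [h.symm12, h.symm23]; exact hd ξ)
      have hab' : w1 = (a - b * s) • ξ + (b * w' j) • w := by
        rw [hab]
        funext i
        simp only [hwdef, w', Pi.add_apply, Pi.smul_apply, smul_eq_mul] at hj ⊢
        field_simp
        ring
      obtain ⟨n, hn⟩ := h.exists_ne
      have e1 := a1 n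
      rw [hab', h.add2, h.smul2, h.smul2, hww, mul_zero, add_zero] at e1
      have e2 := hd n
      rw [hab', T3_add, T3_smul, T3_smul, h.add2, h.smul2, h.smul2, h.add2, h.smul2, h.smul2, h.ξξ,
        h.symm12 ξ w, hww, mul_zero, add_zero] at e2
      have ha : a - b * s = 0 := by
        have : (a - b * s) * ((a - b * s) * (2 * Tv F ξ n)) = 0 := by
          linear_combination e2 - 2 * (b * w' j) * e1
        simpa [hn] using this
      apply hD
      rw [ha, zero_smul, zero_add] at hab'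
      have hb := congrFun hab' j
      rw [Pi.smul_apply, smul_eq_mul, hwj, mul_one, hw1, Function.comp_apply, hwj, Derivation.map_one_eq_zero] at hb
      rw [hab', ← hb, zero_smul]
    · push Not at hd
      obtain ⟨z, hz⟩ := hd
      exact h.singular_moving hww D hz

/-- A generic point is not a T-point. -/
theorem not_split (h : Generic F ξ) : ¬ Split3 (MvPolynomial.map (algebraMap K Ω) F) ξ := by
  intro hs
  obtain ⟨L₁, L₂, L₃, g1, g2, g3, hmem⟩ := hs
  obtain ⟨q, hq⟩ := Ideal.mem_span_singleton'.mp hmem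
  obtain ⟨c₁, hc₁⟩ := exists_coeff_linear (S := Ω) g1
  obtain ⟨c₂, hc₂⟩ := exists_coeff_linear (S := Ω) g2
  obtain ⟨c₃, hc₃⟩ := exists_coeff_linear (S := Ω) g3
  let dot : (Fin 4 → Ω) → (Fin 4 → Ω) → Ω := fun c x => ∑ i, c i * x i
  have hF : ∀ t, Tv F ξ t = 0 → Fv F t = dot c₁ t * dot c₂ t * dot c₃ t := by
    intro t ht
    have h1 : aeval t (∑ i : Fin 4, C (eval ξ (pderiv i (MvPolynomial.map (algebraMap K Ω) F))) * X i) = (0 : Ω) := by
      rw [← ht]
      simp only [map_sum, map_mul, aeval_C, aeval_X, Algebra.algebraMap_self, RingHom.id_apply, Tv, gv, pderiv_map,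
        eval_map]
      simp only [aeval_def]
    have h2 : aeval t (MvPolynomial.map (algebraMap K Ω) F - L₁ * L₂ * L₃) = (0 : Ω) := by
      rw [← hq, map_mul, h1, mul_zero]
    rw [map_sub, sub_eq_zero, map_mul, map_mul, hc₁, hc₂, hc₃, aeval_map_algebraMap] at h2
    exact h2
  have hadd : ∀ c x y, dot c (x + y) = dot c x + dot c y := fun c x y => by
    simp [dot, mul_add, Finset.sum_add_distrib]
  have hsm : ∀ c r x, dot c (r • x) = r * dot c x := fun c r x => by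
    simp only [dot, Pi.smul_apply, smul_eq_mul, Finset.mul_sum, mul_left_comm]
  suffices key : ∀ l₁ l₂ l₃ : Fin 4 → Ω, dot l₁ ξ = 0 →
      (∀ t, Tv F ξ t = 0 → Fv F t = dot l₁ t * dot l₂ t * dot l₃ t) → False by
    have h0 : dot c₁ ξ * dot c₂ ξ * dot c₃ ξ = 0 := by rw [← hF ξ h.Tvξξ, h.onS]
    rcases mul_eq_zero.mp h0 with h0 | h0
    · rcases mul_eq_zero.mp h0 with h0 | h0
      · exact key c₁ c₂ c₃ h0 hF
      · exact key c₂ c₁ c₃ h0 fun t ht => by rw [hF t ht]; ring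
    · exact key c₃ c₁ c₂ h0 fun t ht => by rw [hF t ht]; ring
  intro l₁ l₂ l₃ hl₁ hF'
  have hpol : ∀ (l₁ l₂ l₃ : Fin 4 → Ω), (∀ t, Tv F ξ t = 0 → Fv F t = dot l₁ t * dot l₂ t * dot l₃ t) →
      ∀ x y z, Tv F ξ x = 0 → Tv F ξ y = 0 → Tv F ξ z = 0 → T3 F x y z =
        dot l₁ x * dot l₂ y * dot l₃ z + dot l₁ x * dot l₂ z * dot l₃ y + dot l₁ y * dot l₂ x * dot l₃ z +
        dot l₁ y * dot l₂ z * dot l₃ x + dot l₁ z * dot l₂ x * dot l₃ y + dot l₁ z * dot l₂ y * dot l₃ x := by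
    intro l₁ l₂ l₃ hF x y z hx hy hz
    rw [(T3_props h.hom x y z).2.2.2.2, S3, hF _ (by simp [Tv_add_right, hx, hy, hz]),
      hF _ (by simp [Tv_add_right, hx, hy]), hF _ (by simp [Tv_add_right, hx, hz]),
      hF _ (by simp [Tv_add_right, hy, hz]), hF x hx, hF y hy, hF z hz]
    simp only [hadd]
    ring
  -- the double point
  suffices key : ∀ l₁ l₂ l₃ : Fin 4 → Ω, dot l₁ ξ = 0 → dot l₂ ξ = 0 →
      (∀ t, Tv F ξ t = 0 → Fv F t = dot l₁ t * dot l₂ t * dot l₃ t) → False by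
    by_cases h2 : dot l₂ ξ = 0
    · exact key l₁ l₂ l₃ hl₁ h2 hF'
    by_cases h3 : dot l₃ ξ = 0
    · exact key l₁ l₃ l₂ hl₁ h3 fun t ht => by rw [hF' t ht]; ring
    have hl : ∀ t, Tv F ξ t = 0 → dot l₁ t = 0 := fun t ht => by
      have e := hpol l₁ l₂ l₃ hF' ξ ξ t h.Tvξξ h.Tvξξ ht
      rw [h.ξξ, ht, hl₁] at e
      have : dot l₁ t * (dot l₂ ξ * dot l₃ ξ) = 0 := by linear_combination -e / 2
      exact (mul_eq_zero.mp this).resolve_right (mul_ne_zero h2 h3)
    exact h.rank_zero fun t t' ht ht' => by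
      rw [hpol l₁ l₂ l₃ hF' ξ t t' h.Tvξξ ht ht', hl₁, hl t ht, hl t' ht']; ring
  intro l₁ l₂ l₃ hl₁ hl₂ hF
  have hB : ∀ x y, Tv F ξ x = 0 → Tv F ξ y = 0 →
      T3 F ξ x y = dot l₃ ξ * (dot l₁ x * dot l₂ y + dot l₁ y * dot l₂ x) := fun x y hx hy => by
    rw [hpol l₁ l₂ l₃ hF ξ x y h.Tvξξ hx hy, hl₁, hl₂]; ring
  by_cases h3 : dot l₃ ξ = 0
  · exact h.rank_zero fun t t' ht ht' => by rw [hB t t' ht ht', h3, zero_mul]
  by_cases hr2 : (∃ w, Tv F ξ w = 0 ∧ dot l₁ w = 0 ∧ dot l₂ w ≠ 0) ∧ ∃ u, Tv F ξ u = 0 ∧ dot l₂ u = 0 ∧ dot l₁ u ≠ 0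
  · obtain ⟨⟨w₀, hw₀, hw1, hw2⟩, u₀, hu₀, hu2, hu1⟩ := hr2
    let w := w₀ + (-(dot l₃ w₀ / dot l₃ ξ)) • ξ
    let u := u₀ + (-(dot l₃ u₀ / dot l₃ ξ)) • ξ
    have hw : Tv F ξ w = 0 := by simp only [w, Tv_add_right, Tv_smul_right, hw₀, h.Tvξξ, mul_zero, add_zero]
    have hu : Tv F ξ u = 0 := by simp only [u, Tv_add_right, Tv_smul_right, hu₀, h.Tvξξ, mul_zero, add_zero]
    have a1 : dot l₁ w = 0 := by simp only [w, hadd, hsm, hw1, hl₁, mul_zero, add_zero]
    have a2 : dot l₂ w = dot l₂ w₀ := by simp only [w, hadd, hsm, hl₂, mul_zero, add_zero]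
    have a3 : dot l₃ w = 0 := by simp only [w, hadd, hsm, neg_mul, div_mul_cancel₀ _ h3, add_neg_cancel]
    have b2 : dot l₂ u = 0 := by simp only [u, hadd, hsm, hu2, hl₂, mul_zero, add_zero]
    have b1 : dot l₁ u = dot l₁ u₀ := by simp only [u, hadd, hsm, hl₁, mul_zero, add_zero]
    have b3 : dot l₃ u = 0 := by simp only [u, hadd, hsm, neg_mul, div_mul_cancel₀ _ h3, add_neg_cancel]
    refine h.rank_two u w hu hw (fun t ht => ?_) (fun t ht => ?_) ?_
    · rw [hpol l₁ l₂ l₃ hF u u t hu hu ht, b2, b3]; ring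
    · rw [hpol l₁ l₂ l₃ hF w w t hw hw ht, a1, a3]; ring
    · rw [hB w u hw hu, a1, a2, b1, b2]
      simp [h3, hw2, hu1]
  suffices key : ∀ l₁ l₂ : Fin 4 → Ω, dot l₁ ξ = 0 → dot l₂ ξ = 0 →
      (∀ t, Tv F ξ t = 0 → Fv F t = dot l₁ t * dot l₂ t * dot l₃ t) →
      (∀ t, Tv F ξ t = 0 → dot l₁ t = 0 → dot l₂ t = 0) → False by
    rcases not_and_or.mp hr2 with hh | hh <;> push Not at hh
    · exact key l₁ l₂ hl₁ hl₂ hF hh
    · exact key l₂ l₁ hl₂ hl₁ (fun t ht => by rw [hF t ht]; ring) hh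
  intro l₁ l₂ hl₁ hl₂ hF hdep
  have hB : ∀ x y, Tv F ξ x = 0 → Tv F ξ y = 0 →
      T3 F ξ x y = dot l₃ ξ * (dot l₁ x * dot l₂ y + dot l₁ y * dot l₂ x) := fun x y hx hy => by
    rw [hpol l₁ l₂ l₃ hF ξ x y h.Tvξξ hx hy, hl₁, hl₂]; ring
  by_cases hz : ∀ t, Tv F ξ t = 0 → dot l₁ t = 0
  · exact h.rank_zero fun t t' ht ht' => by rw [hB t t' ht ht', hz t ht, hz t' ht']; ring
  push Not at hz
  obtain ⟨u, hu, hu1⟩ := hz
  let c := dot l₂ u / dot l₁ u
  have hl : ∀ t, Tv F ξ t = 0 → dot l₂ t = c * dot l₁ t := fun t ht => by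
    have := hdep (t + (-(dot l₁ t / dot l₁ u)) • u) (by simp only [Tv_add_right, Tv_smul_right, ht, hu, mul_zero, add_zero])
      (by rw [hadd, hsm, neg_mul, div_mul_cancel₀ _ hu1, add_neg_cancel])
    rw [hadd, hsm] at this
    simp only [c]
    field_simp at this ⊢
    linear_combination this
  by_cases hc : c = 0
  · exact h.rank_zero fun t t' ht ht' => by rw [hB t t' ht ht', hl t ht, hl t' ht', hc]; ring
  obtain ⟨n, hn⟩ := h.exists_ne
  let φ : (Fin 4 → Ω) →ₗ[Ω] Ω × Ω :=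
    { toFun := fun x => (Tv F ξ x, dot l₁ x)
      map_add' := fun x y => by simp [Tv_add_right, hadd]
      map_smul' := fun r x => by simp [Tv_smul_right, hsm] }
  have hφ : Function.Surjective φ := fun p => by
    refine ⟨(p.1 / Tv F ξ n) • n + ((p.2 - p.1 / Tv F ξ n * dot l₁ n) / dot l₁ u) • u, Prod.ext ?_ ?_⟩
    · show Tv F ξ _ = _
      rw [Tv_add_right, Tv_smul_right, Tv_smul_right, hu, mul_zero, add_zero, div_mul_cancel₀ _ hn]
    · show dot l₁ _ = _
      rw [hadd, hsm, hsm, div_mul_cancel₀ _ hu1]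
      ring
  have hk : Module.finrank Ω (LinearMap.ker φ) = 2 := by
    have := φ.finrank_range_add_finrank_ker
    rw [LinearMap.range_eq_top.mpr hφ, finrank_top, Module.finrank_prod, Module.finrank_self,
      Module.finrank_fin_fun] at this
    omega
  have hmem : ∀ x, x ∈ LinearMap.ker φ ↔ Tv F ξ x = 0 ∧ dot l₁ x = 0 := fun x => by
    simp [φ, Prod.ext_iff]
  have hξ0 : ξ ≠ 0 := fun h0 => by
    obtain ⟨i, hi⟩ := h.smooth
    apply hi
    rw [gv_eq_Tv, h0, ← zero_smul Ω n, (expand_data h.hom n n _ 0).2.2.2.1]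
    ring
  obtain ⟨v₀, hv₀, hnp⟩ : ∃ v ∈ LinearMap.ker φ, v ∉ Submodule.span Ω {ξ} := by
    by_contra! hall
    have := Submodule.finrank_mono (show LinearMap.ker φ ≤ Submodule.span Ω {ξ} from hall)
    rw [hk, finrank_span_singleton hξ0] at this
    omega
  obtain ⟨hv0, hv1⟩ := (hmem v₀).mp hv₀
  have hspan : Submodule.span Ω (Set.range ![ξ, v₀]) = LinearMap.ker φ := by
    refine Submodule.eq_of_le_of_finrank_eq (Submodule.span_le.mpr ?_) ?_
    · rintro _ ⟨i, rfl⟩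
      fin_cases i
      · exact (hmem ξ).mpr ⟨h.Tvξξ, hl₁⟩
      · exact hv₀
    · rw [hk, finrank_span_eq_card, Fintype.card_fin]
      rw [LinearIndependent.pair_iff]
      intro a b hab
      have hb : b = 0 := by
        by_contra hb
        refine hnp (Submodule.mem_span_singleton.mpr ⟨-(b⁻¹ * a), ?_⟩)
        funext i
        have := congrFun hab i
        simp only [Pi.add_apply, Pi.smul_apply, smul_eq_mul, Pi.zero_apply] at this ⊢
        field_simp
        linear_combination -this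
      exact ⟨by simpa [hb, hξ0] using hab, hb⟩
  have hv2 : dot l₂ v₀ = 0 := by rw [hl v₀ hv0, hv1, mul_zero]
  refine h.rank_one v₀ hv0 (fun r hr => hnp (Submodule.mem_span_singleton.mpr ⟨r, hr.symm⟩))
    (fun t ht => by rw [hB v₀ t hv0 ht, hv1, hv2]; ring)
    (fun t ht => by rw [hpol l₁ l₂ l₃ hF v₀ v₀ t hv0 hv0 ht, hv1, hv2]; ring) fun t ht hT => ?_
  rw [hB t t ht ht, hl t ht] at hT
  have ht1 : dot l₁ t = 0 := by
    have : dot l₁ t ^ 2 * (2 * c * dot l₃ ξ) = 0 := by linear_combination hT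
    simpa [hc, h3] using this
  have := (hmem t).mpr ⟨ht, ht1⟩
  rw [← hspan, Submodule.mem_span_range_iff_exists_fun] at this
  obtain ⟨g, hg⟩ := this
  exact ⟨g 0, g 1, by rw [← hg, Fin.sum_univ_two]; rfl⟩

end Generic

end Groth.Agent.Five86

end
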