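import Groth.Agent.Five86.Density

/-!
# Not every point of an irreducible cubic surface which is not a cone is a T-point: the differential core

`ξ` is a point with enough derivations (a generic point).
-/

set_option autoImplicit false
set_option maxHeartbeats 1000000

noncomputable section

namespace Groth.Agent.Five86

open MvPolynomial TPt86

section tri

variable {K : Type*} [CommRing K] {S : Type*} [CommRing S] [Algebra K S]

/-- The trilinear form of a cubic. -/
def T3 (F : MvPolynomial (Fin 4) K) (x y z : Fin 4 → S) : S :=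
  ∑ i, ∑ j, ∑ l, algebraMap K S (constantCoeff (pderiv i (pderiv j (pderiv l F)))) * x i * y j * z l

theorem T3_add (F : MvPolynomial (Fin 4) K) (x x' y z : Fin 4 → S) :
    T3 F (x + x') y z = T3 F x y z + T3 F x' y z := by
  simp [T3, mul_add, add_mul, Finset.sum_add_distrib]

theorem T3_smul (F : MvPolynomial (Fin 4) K) (c : S) (x y z : Fin 4 → S) :
    T3 F (c • x) y z = c * T3 F x y z := by
  simp only [T3, Finset.mul_sum, Pi.smul_apply, smul_eq_mul]
  exact Finset.sum_congr rfl fun i _ => Finset.sum_congr rfl fun j _ => Finset.sum_congr rfl fun l _ => by ring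

theorem T3_zero (F : MvPolynomial (Fin 4) K) (y z : Fin 4 → S) : T3 F (0 : Fin 4 → S) y z = 0 := by
  simp [T3]

theorem D_T3 {R : Type*} [CommRing R] [Algebra R S] [Algebra R K] [IsScalarTower R K S] (F : MvPolynomial (Fin 4) K)
    (D : Derivation K S S) (x y z : Fin 4 → S) :
    D (T3 F x y z) = T3 F (⇑D ∘ x) y z + T3 F x (⇑D ∘ y) z + T3 F x y (⇑D ∘ z) := by
  simp only [T3, map_sum, ← Finset.sum_add_distrib, Derivation.leibniz, Derivation.map_algebraMap, smul_eq_mul,
    Function.comp_apply, mul_zero, add_zero]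
  exact Finset.sum_congr rfl fun i _ => Finset.sum_congr rfl fun j _ => Finset.sum_congr rfl fun l _ => by ring

end tri

variable {K : Type*} [Field K] {S : Type*} [CommRing S] [Algebra K S]

theorem T3_props {F : MvPolynomial (Fin 4) K} (hF : F.IsHomogeneous 3) (x y z : Fin 4 → S) :
    T3 F x y z = T3 F y x z ∧ T3 F x y z = T3 F x z y ∧ T3 F x x x = 6 * Fv F x ∧
      T3 F x x y = 2 * Tv F x y ∧ T3 F x y z = S3 (Fv F) x y z := by
  obtain ⟨s, rfl⟩ := exists_coeffs hF
  clear hF
  induction s using Multiset.induction with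
  | empty => simp [T3, Fv, Tv, gv, S3]
  | cons t s ih =>
    obtain ⟨a, i, j, l⟩ := t
    simp only [Multiset.map_cons, Multiset.sum_cons]
    generalize (Multiset.map (fun t : K × Fin 4 × Fin 4 × Fin 4 => C t.1 * X t.2.1 * X t.2.2.1 * X t.2.2.2) s).sum =
      G at ih ⊢
    have h3 : ∀ p q r : Fin 4 → S, T3 (C a * X i * X j * X l + G) p q r =
        algebraMap K S a * (p i * q j * r l + p i * r j * q l + q i * p j * r l + q i * r j * p l + r i * p j * q l +
          r i * q j * p l) + T3 G p q r := fun p q r => by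
      have hs : ∀ (m : Fin 4) (f : S) (v : Fin 4 → S), ∑ n, (if m = n then f else 0) * v n = f * v m :=
        fun m f v => by simp [Finset.sum_ite_eq]
      simp only [T3, map_add, Finset.sum_add_distrib, add_mul, Derivation.leibniz, pderiv_C, pderiv_X, smul_eq_mul,
        map_mul, constantCoeff_C, constantCoeff_X, Pi.single_apply, apply_ite (pderiv _), apply_ite constantCoeff,
        map_one, map_zero, mul_zero, zero_mul, add_zero, zero_add, mul_ite, ite_mul, mul_one, one_mul, mul_add,
        apply_ite (algebraMap K S), Finset.sum_ite_eq, Finset.sum_ite_irrel, Finset.sum_const_zero, Finset.mem_univ,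
        if_true, ite_self, Derivation.map_one_eq_zero]
      ring
    have hT : ∀ p q : Fin 4 → S, Tv (C a * X i * X j * X l + G) p q =
        algebraMap K S a * (q i * p j * p l + p i * q j * p l + p i * p j * q l) + Tv G p q := fun p q => by
      have hsum : ∀ (m : Fin 4) (f : S), ∑ r, (if m = r then f else 0) * q r = f * q m := fun m f => by
        simp [Finset.sum_ite_eq]
      simp only [Tv, gv, map_add, add_mul, Finset.sum_add_distrib, Derivation.leibniz, pderiv_C, pderiv_X,
        smul_eq_mul, map_mul, aeval_X, aeval_C, Pi.single_apply, apply_ite (aeval p), map_one, map_zero,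
        mul_zero, add_zero, mul_ite, mul_one, mul_add, hsum]
      ring
    have hV : ∀ p : Fin 4 → S, Fv (C a * X i * X j * X l + G) p = algebraMap K S a * p i * p j * p l + Fv G p :=
      fun p => by simp [Fv]
    obtain ⟨h1, h2, h4, h5, h6⟩ := ih
    simp only [S3] at h6 ⊢
    simp only [h3, hT, hV, Pi.add_apply]
    exact ⟨by linear_combination h1, by linear_combination h2, by linear_combination h4, by linear_combination h5,
      by linear_combination h6⟩

attribute [local irreducible] T3

variable {Ω : Type*} [Field Ω] [Algebra K Ω] [CharZero Ω] [IsAlgClosed Ω]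

/-- A generic point of a cubic surface, seen through derivations. -/
structure Generic (F : MvPolynomial (Fin 4) K) (ξ : Fin 4 → Ω) : Prop where
  hom : F.IsHomogeneous 3
  onS : Fv F ξ = 0
  smooth : ∃ i, gv F ξ i ≠ 0
  lift : ∀ v, Tv F ξ v = 0 → ∃ D : Derivation K Ω Ω, ⇑D ∘ ξ = v
  const : ∀ z : Ω, (∀ D : Derivation K Ω Ω, D z = 0) → z ∈ Set.range (algebraMap K Ω)
  small : ∀ (d : ℕ) (p : MvPolynomial (Fin 4) K), d < 3 → p.IsHomogeneous d → aeval ξ p = 0 → p = 0
  noPlaneK : ∀ g : Fin 4 → K, g ≠ 0 → ∃ x : Fin 4 → K, ∑ i, g i * x i = 0 ∧ eval x F ≠ 0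
  noCone : ¬ ∃ v : Fin 4 → K, v ≠ 0 ∧ ∑ i : Fin 4, v i • pderiv i F = 0

namespace Generic

variable {F : MvPolynomial (Fin 4) K} {ξ : Fin 4 → Ω}

theorem symm12 (h : Generic F ξ) (x y z : Fin 4 → Ω) : T3 F x y z = T3 F y x z := (T3_props h.hom x y z).1

theorem symm23 (h : Generic F ξ) (x y z : Fin 4 → Ω) : T3 F x y z = T3 F x z y := (T3_props h.hom x y z).2.1

theorem add2 (h : Generic F ξ) (x y y' z : Fin 4 → Ω) : T3 F x (y + y') z = T3 F x y z + T3 F x y' z := by
  rw [h.symm12, T3_add, h.symm12 y, h.symm12 y']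

theorem smul2 (h : Generic F ξ) (c : Ω) (x y z : Fin 4 → Ω) : T3 F x (c • y) z = c * T3 F x y z := by
  rw [h.symm12, T3_smul, h.symm12 y]

theorem add3 (h : Generic F ξ) (x y z z' : Fin 4 → Ω) : T3 F x y (z + z') = T3 F x y z + T3 F x y z' := by
  rw [h.symm23, h.add2, h.symm23 x z, h.symm23 x z']

theorem smul3 (h : Generic F ξ) (c : Ω) (x y z : Fin 4 → Ω) : T3 F x y (c • z) = c * T3 F x y z := by
  rw [h.symm23, h.smul2, h.symm23 x z]

theorem sum3 (h : Generic F ξ) {ι : Type*} (s : Finset ι) (x y : Fin 4 → Ω) (z : ι → Fin 4 → Ω) :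
    T3 F x y (∑ i ∈ s, z i) = ∑ i ∈ s, T3 F x y (z i) := by
  classical
  induction s using Finset.induction with
  | empty => simp only [Finset.sum_empty]; rw [← zero_smul Ω x, h.smul3, zero_mul]
  | insert i s hi ih => rw [Finset.sum_insert hi, Finset.sum_insert hi, h.add3, ih]

theorem D_eq (h : Generic F ξ) (D : Derivation K Ω Ω) (x y z : Fin 4 → Ω) :
    D (T3 F x y z) = T3 F (⇑D ∘ x) y z + T3 F x (⇑D ∘ y) z + T3 F x y (⇑D ∘ z) := D_T3 (R := K) F D x y z

/-- The derivative of a vanishing value. -/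
theorem D_zero (h : Generic F ξ) (D : Derivation K Ω Ω) {x y z : Fin 4 → Ω} (h0 : T3 F x y z = 0) :
    T3 F (⇑D ∘ x) y z + T3 F x (⇑D ∘ y) z + T3 F x y (⇑D ∘ z) = 0 := by
  rw [← h.D_eq, h0, map_zero]

theorem ξξ (h : Generic F ξ) (t : Fin 4 → Ω) : T3 F ξ ξ t = 2 * Tv F ξ t := (T3_props h.hom ξ t t).2.2.2.1

theorem ξξξ (h : Generic F ξ) : T3 F ξ ξ ξ = 0 := by rw [(T3_props h.hom ξ ξ ξ).2.2.1, h.onS, mul_zero]

theorem Tvξξ (h : Generic F ξ) : Tv F ξ ξ = 0 := by
  have := h.ξξ ξ
  rw [h.ξξξ] at this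
  simpa using this.symm

theorem Dξ_mem (h : Generic F ξ) (D : Derivation K Ω Ω) : Tv F ξ (⇑D ∘ ξ) = 0 := by
  have h0 := h.D_zero D h.ξξξ
  rw [h.symm12 (⇑D ∘ ξ), h.symm23 ξ (⇑D ∘ ξ), h.ξξ] at h0
  linear_combination h0 / 6

theorem exists_ne (h : Generic F ξ) : ∃ n, Tv F ξ n ≠ 0 := by
  obtain ⟨i, hi⟩ := h.smooth
  exact ⟨Pi.single i 1, by rwa [← gv_eq_Tv]⟩

/-- A functional killing the tangent plane and a vector off it is zero. -/
theorem kill (h : Generic F ξ) {a b n : Fin 4 → Ω} (hn : Tv F ξ n ≠ 0)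
    (hT : ∀ t, Tv F ξ t = 0 → T3 F a b t = 0) (h0 : T3 F a b n = 0) (x : Fin 4 → Ω) : T3 F a b x = 0 := by
  have := hT (x + (-(Tv F ξ x / Tv F ξ n)) • n) (by
    rw [Tv_add_right, Tv_smul_right, neg_mul, div_mul_cancel₀ _ hn, add_neg_cancel])
  rw [h.add3, h.smul3, h0, mul_zero, add_zero] at this
  exact this

/-- A functional killing the tangent plane is a multiple of the one at `ξ`. -/
theorem exists_scalar (h : Generic F ξ) {a b : Fin 4 → Ω} (hT : ∀ t, Tv F ξ t = 0 → T3 F a b t = 0) :
    ∃ c, ∀ x, T3 F a b x = c * Tv F ξ x := by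
  obtain ⟨n, hn⟩ := h.exists_ne
  refine ⟨T3 F a b n / Tv F ξ n, fun x => ?_⟩
  have := hT (x + (-(Tv F ξ x / Tv F ξ n)) • n) (by
    rw [Tv_add_right, Tv_smul_right, neg_mul, div_mul_cancel₀ _ hn, add_neg_cancel])
  rw [h.add3, h.smul3] at this
  field_simp at this ⊢
  linear_combination this

/-- The cubic vanishes on no subspace of dimension three. -/
theorem no_plane (h : Generic F ξ) (b : Fin 3 → Fin 4 → Ω) (hb : LinearIndependent Ω b)
    (hzero : ∀ i j l, T3 F (b i) (b j) (b l) = 0) : False := by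
  classical
  have hspan : ∀ (D : Derivation K Ω Ω) r, ⇑D ∘ b r ∈ Submodule.span Ω (Set.range b) := by
    intro D i₀
    by_contra hN
    generalize hNdef : ⇑D ∘ b i₀ = N at hN
    have hli : LinearIndependent Ω (Fin.snoc b N : Fin 4 → Fin 4 → Ω) := linearIndependent_finSnoc.mpr ⟨hb, hN⟩
    let B := basisOfLinearIndependentOfCardEqFinrank hli (by simp)
    have hdec : ∀ v : Fin 4 → Ω, ∃ (c : Fin 3 → Ω) (e : Ω), v = ∑ r, c r • b r + e • N := fun v => by
      refine ⟨fun r => B.repr v r.castSucc, B.repr v (Fin.last 3), ?_⟩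
      conv_lhs => rw [← B.sum_repr v]
      rw [Fin.sum_univ_castSucc]
      simp only [B, coe_basisOfLinearIndependentOfCardEqFinrank, Fin.snoc_castSucc, Fin.snoc_last]
    choose c η hη using fun r => hdec (⇑D ∘ b r)
    have hη0 : η i₀ = 1 := by
      by_contra hne
      apply hN
      have h1 : (1 - η i₀) • N = ∑ r, c i₀ r • b r := by
        rw [sub_smul, one_smul, sub_eq_iff_eq_add]; exact hNdef ▸ hη i₀
      rw [← inv_smul_smul₀ (sub_ne_zero.mpr (Ne.symm hne)) N, h1]
      exact Submodule.smul_mem _ _ (Submodule.sum_mem _ fun r _ => Submodule.smul_mem _ _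
        (Submodule.subset_span ⟨r, rfl⟩))
    have e1 : ∀ i j l, T3 F (b i) (b j) (⇑D ∘ b l) = η l * T3 F (b i) (b j) N := fun i j l => by
      rw [hη l, h.add3, h.sum3, h.smul3]
      simp [h.smul3, hzero]
    have hG : ∀ j l, T3 F (b j) (b l) N = 0 := by
      have d : ∀ i j l, η i * T3 F (b j) (b l) N + η j * T3 F (b i) (b l) N + η l * T3 F (b i) (b j) N = 0 := by
        intro i j l
        have h0 := h.D_zero D (hzero i j l)
        rw [h.symm12 (⇑D ∘ b i), h.symm23 (b j) (⇑D ∘ b i), e1, h.symm23 (b i) (⇑D ∘ b j), e1, e1] at h0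
        exact h0
      have g00 : T3 F (b i₀) (b i₀) N = 0 := by
        have := d i₀ i₀ i₀; rw [hη0] at this; linear_combination this / 3
      have g0 : ∀ l, T3 F (b i₀) (b l) N = 0 := fun l => by
        have := d i₀ i₀ l; rw [hη0, g00] at this; linear_combination this / 2
      intro j l
      have := d i₀ j l; rw [hη0, g0, g0] at this; linear_combination this
    have e2 : ∀ i l, T3 F (b i) N (⇑D ∘ b l) = η l * T3 F (b i) N N := fun i l => by
      rw [hη l, h.add3, h.sum3, h.smul3]
      simp [h.smul3, h.symm23 (b i) N, hG]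
    have e3 : ∀ i j, T3 F (b i) (b j) (⇑D ∘ N) = 0 := fun i j => by
      obtain ⟨c, e, hce⟩ := hdec (⇑D ∘ N)
      rw [hce, h.add3, h.sum3, h.smul3]
      simp [h.smul3, hzero, hG]
    have hH : ∀ l, T3 F (b l) N N = 0 := by
      have d : ∀ j l, η j * T3 F (b l) N N + η l * T3 F (b j) N N = 0 := by
        intro j l
        have h0 := h.D_zero D (hG j l)
        rw [h.symm12 (⇑D ∘ b j), h.symm23 (b l) (⇑D ∘ b j), e2, h.symm23 (b j) (⇑D ∘ b l), e2, e3, add_zero] at h0
        exact h0
      have g0 : T3 F (b i₀) N N = 0 := by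
        have := d i₀ i₀; rw [hη0] at this; linear_combination this / 2
      intro l
      have := d i₀ l; rw [hη0, g0] at this; linear_combination this
    have hd : T3 F N N N = 0 := by
      have h0 := h.D_zero D (hH i₀)
      have e : ∀ v, T3 F (b i₀) N v = 0 := fun v => by
        obtain ⟨c, e, hce⟩ := hdec v
        rw [hce, h.add3, h.sum3, h.smul3]
        simp [h.smul3, h.symm23 (b i₀) N, hG, hH, hzero]
      rw [hNdef, h.symm23 (b i₀) (⇑D ∘ N), e, add_zero, add_zero] at h0
      exact h0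
    have hall : ∀ x y z : Fin 4 → Ω, T3 F x y z = 0 := by
      have k1 : ∀ i j (z : Fin 4 → Ω), T3 F (b i) (b j) z = 0 := fun i j z => by
        obtain ⟨c, e, hce⟩ := hdec z
        rw [hce, h.add3, h.sum3, h.smul3]; simp [h.smul3, hzero, hG]
      have k2 : ∀ i (z : Fin 4 → Ω), T3 F (b i) N z = 0 := fun i z => by
        obtain ⟨c, e, hce⟩ := hdec z
        rw [hce, h.add3, h.sum3, h.smul3]; simp [h.smul3, h.symm23 (b i) N, hG, hH]
      have k3 : ∀ (z : Fin 4 → Ω), T3 F N N z = 0 := fun z => by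
        obtain ⟨c, e, hce⟩ := hdec z
        rw [hce, h.add3, h.sum3, h.smul3]; simp [h.smul3, h.symm23 N N, h.symm12 N (b _), hH, hd]
      have k4 : ∀ i (y z : Fin 4 → Ω), T3 F (b i) y z = 0 := fun i y z => by
        obtain ⟨c, e, hce⟩ := hdec y
        rw [hce, h.symm23, h.add3, h.sum3, h.smul3]
        simp [h.smul3, h.symm23 (b i) z, k1, k2]
      have k5 : ∀ (y z : Fin 4 → Ω), T3 F N y z = 0 := fun y z => by
        obtain ⟨c, e, hce⟩ := hdec y
        rw [hce, h.symm23, h.add3, h.sum3, h.smul3]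
        simp [h.smul3, h.symm23 N z, h.symm12 N (b _), k4, k3]
      intro x y z
      obtain ⟨c, e, hce⟩ := hdec x
      rw [hce, h.symm12, h.symm23, h.add3, h.sum3, h.smul3]
      simp [h.smul3, h.symm23 y z, h.symm12 y, k4, k5]
    obtain ⟨n, hn⟩ := h.exists_ne
    exact hn (by have := h.ξξ n; rw [hall] at this; linear_combination this / -2)
  -- the normal vector is constant
  obtain ⟨g, hg0, hg⟩ : ∃ g : Fin 4 → Ω, g ≠ 0 ∧ ∀ x, ∑ i, g i * x i = 0 ↔ x ∈ Submodule.span Ω (Set.range b) := by
    obtain ⟨N, hN⟩ : ∃ N, N ∉ Submodule.span Ω (Set.range b) := by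
      by_contra! hall
      have h1 := finrank_range_le_card (R := Ω) b
      rw [Set.finrank, Submodule.eq_top_iff'.mpr hall, finrank_top, Module.finrank_fin_fun, Fintype.card_fin] at h1
      omega
    let B := basisOfLinearIndependentOfCardEqFinrank (linearIndependent_finSnoc.mpr ⟨hb, hN⟩ :
      LinearIndependent Ω (Fin.snoc b N : Fin 4 → Fin 4 → Ω)) (by simp)
    have hc : ∀ x, ∑ i, B.coord (Fin.last 3) (Pi.single i 1) * x i = B.coord (Fin.last 3) x := fun x => by
      conv_rhs => rw [pi_eq_sum_univ' x]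
      simp only [map_sum, map_smul, smul_eq_mul, mul_comm]
    refine ⟨fun i => B.coord (Fin.last 3) (Pi.single i 1), fun h0 => ?_, fun x => ?_⟩
    · have := hc (B (Fin.last 3))
      rw [Finset.sum_eq_zero fun i _ => by
        rw [show B.coord (Fin.last 3) (Pi.single i 1) = 0 from congrFun h0 i, zero_mul]] at this
      simp at this
    · rw [hc]
      constructor
      · intro hx
        rw [← B.sum_repr x, Fin.sum_univ_castSucc, show B.repr x (Fin.last 3) = 0 from hx, zero_smul, add_zero]
        exact Submodule.sum_mem _ fun r _ => Submodule.smul_mem _ _ (Submodule.subset_span ⟨r, by simp [B]⟩)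
      · intro hx
        refine (Submodule.span_le (p := LinearMap.ker (B.coord (Fin.last 3)))).mpr ?_ hx
        rintro _ ⟨r, rfl⟩
        have hBr : B r.castSucc = b r := by simp [B]
        rw [← hBr]
        simp only [SetLike.mem_coe, LinearMap.mem_ker, Module.Basis.coord_apply, Module.Basis.repr_self]
        exact Finsupp.single_eq_of_ne (Fin.castSucc_ne_last r).symm
  obtain ⟨j, hj⟩ : ∃ j, g j ≠ 0 := by
    by_contra! hall; exact hg0 (funext hall)
  let g' : Fin 4 → Ω := fun i => g i / g j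
  have hg' : ∀ x, ∑ i, g' i * x i = 0 ↔ x ∈ Submodule.span Ω (Set.range b) := fun x => by
    rw [← hg, show ∑ i, g' i * x i = (∑ i, g i * x i) / g j by
      rw [Finset.sum_div]; exact Finset.sum_congr rfl fun i _ => by simp only [g']; ring]
    simp [div_eq_zero_iff, hj]
  have hconst : ∀ i, g' i ∈ Set.range (algebraMap K Ω) := fun i => h.const _ fun D => by
    have hperp : ∀ x : Fin 4 → Ω, ∑ i, g' i * x i = 0 → ∑ i, D (g' i) * x i = 0 := by
      intro x hx
      have hl : ∀ r, ∑ i, D (g' i) * b r i = 0 := fun r => by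
        have h1 := congrArg D ((hg' (b r)).mpr (Submodule.subset_span ⟨r, rfl⟩))
        have h2 := (hg' _).mpr (hspan D r)
        simp only [map_sum, Derivation.leibniz, smul_eq_mul, map_zero, Finset.sum_add_distrib] at h1
        simp only [Function.comp_apply] at h2
        rw [h2, zero_add] at h1
        simpa only [mul_comm] using h1
      induction (hg' x).mp hx using Submodule.span_induction with
      | mem v hv => obtain ⟨r, rfl⟩ := hv; exact hl r
      | zero => simp
      | add v w hv' hw' hv hw =>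
        simp only [Pi.add_apply, mul_add, Finset.sum_add_distrib, hv ((hg' _).mpr hv'), hw ((hg' _).mpr hw'), add_zero]
      | smul c v hv' hv =>
        simp only [Pi.smul_apply, smul_eq_mul, mul_left_comm _ c, ← Finset.mul_sum, hv ((hg' _).mpr hv'), mul_zero]
    have hgj : g' j = 1 := div_self hj
    have := hperp (Pi.single i 1 - g' i • Pi.single j 1) (by
      simp [mul_sub, Finset.sum_sub_distrib, Pi.single_apply, hgj, mul_comm])
    simpa [mul_sub, sub_mul, ite_mul, Finset.sum_sub_distrib, Pi.single_apply, hgj, mul_comm] using this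
  choose gK hgK using hconst
  have hgK0 : gK ≠ 0 := fun h0 => by
    have := hgK j
    rw [h0, show g' j = 1 from div_self hj] at this
    simp at this
  obtain ⟨x, hx, hFx⟩ := h.noPlaneK gK hgK0
  apply hFx
  have hmem : (fun i => algebraMap K Ω (x i)) ∈ Submodule.span Ω (Set.range b) := by
    rw [← hg']
    simp only [← hgK, ← map_mul, ← map_sum, hx, map_zero]
  have hzero' : ∀ p q r, p ∈ Submodule.span Ω (Set.range b) → q ∈ Submodule.span Ω (Set.range b) →
      r ∈ Submodule.span Ω (Set.range b) → T3 F p q r = 0 := by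
    intro p q r hp hq hr
    rw [Submodule.mem_span_range_iff_exists_fun] at hp hq hr
    obtain ⟨cp, rfl⟩ := hp
    obtain ⟨cq, rfl⟩ := hq
    obtain ⟨cr, rfl⟩ := hr
    simp only [Fin.sum_univ_three, T3_add, T3_smul, h.add2, h.smul2, h.add3, h.smul3, hzero, mul_zero, add_zero]
  have h6 := hzero' _ _ _ hmem hmem hmem
  rw [(T3_props h.hom _ (fun i => algebraMap K Ω (x i)) (fun i => algebraMap K Ω (x i))).2.2.1] at h6
  have h7 : Fv F (fun i => algebraMap K Ω (x i)) = algebraMap K Ω (eval x F) := by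
    rw [show eval x F = (aeval x F : K) from rfl, ← Algebra.ofId_apply]
    exact (comp_aeval_apply x (Algebra.ofId K Ω) F).symm
  rw [h7] at h6
  simpa using h6

/-- A moving singular point sweeps a plane unless its tangent line is double. -/
theorem singular_moving (h : Generic F ξ) {w : Fin 4 → Ω} (hw : ∀ x, T3 F w w x = 0) (D : Derivation K Ω Ω)
    {z : Fin 4 → Ω} (hne : T3 F (⇑D ∘ w) (⇑D ∘ w) z ≠ 0) : False := by
  set w1 := ⇑D ∘ w with hw1
  set w2 := ⇑D ∘ w1 with hw2
  set w3 := ⇑D ∘ w2 with hw3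
  set w4 := ⇑D ∘ w3 with hw4
  have a1 : ∀ x, T3 F w w1 x = 0 := fun x => by
    have h0 := h.D_zero D (hw x)
    rw [← hw1, hw, add_zero, h.symm12 w1 w] at h0
    linear_combination h0 / 2
  have a2 : ∀ x, T3 F w1 w1 x + T3 F w w2 x = 0 := fun x => by
    have h0 := h.D_zero D (a1 x)
    rw [← hw1, ← hw2, a1, add_zero] at h0
    exact h0
  have a3 : ∀ x, 3 * T3 F w1 w2 x + T3 F w w3 x = 0 := fun x => by
    have h0 := congrArg D (a2 x)
    rw [map_add, h.D_eq, h.D_eq, map_zero, ← hw1, ← hw2, ← hw3] at h0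
    have := a2 (⇑D ∘ x)
    rw [h.symm12 w2 w1] at h0
    linear_combination h0 - this
  have a4 : ∀ x, 3 * T3 F w2 w2 x + 4 * T3 F w1 w3 x + T3 F w w4 x = 0 := fun x => by
    have h0 := congrArg D (a3 x)
    simp only [map_add, Derivation.leibniz, smul_eq_mul, h.D_eq, map_zero, ← hw1, ← hw2, ← hw3, ← hw4] at h0
    have e3 : D (3 : Ω) = 0 := by
      rw [show (3 : Ω) = algebraMap K Ω 3 by rw [map_ofNat], Derivation.map_algebraMap]
    rw [e3] at h0
    have := a3 (⇑D ∘ x)
    linear_combination h0 - this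
  have q0 : T3 F w w1 w1 = 0 := a1 w1
  have b111 : T3 F w1 w1 w1 = 0 := by
    have := a2 w1; rw [h.symm23 w w2 w1, a1] at this; linear_combination this
  have b112 : T3 F w1 w1 w2 = 0 := by
    have e := a3 w1
    rw [h.symm23 w w3 w1, a1, h.symm23 w1 w2 w1] at e
    linear_combination e / 3
  have b022 : T3 F w w2 w2 = 0 := by linear_combination a2 w2 - b112
  have hb : T3 F w1 w2 w2 * (-5) = 0 ∧ T3 F w1 w1 w3 = -2 * T3 F w1 w2 w2 := by
    have d1 := h.D_zero D b112
    rw [← hw2, ← hw3, h.symm12 w2 w1] at d1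
    have e := a4 w1
    rw [h.symm23 w w4 w1, a1, h.symm12 w2 w2 , h.symm23 w2 w2 w1, h.symm12 w2 w1, h.symm23 w1 w3 w1] at e
    exact ⟨by linear_combination e - 4 * d1, by linear_combination d1⟩
  have b122 : T3 F w1 w2 w2 = 0 := by linear_combination hb.1 / -5
  have b113 : T3 F w1 w1 w3 = 0 := by rw [hb.2, b122, mul_zero]
  have k0 : T3 F w1 w1 w = 0 := by rw [h.symm23, h.symm12, a1]
  let v : Fin 3 → Fin 4 → Ω := ![w, w1, w2]
  have hv : LinearIndependent Ω v := by
    rw [Fintype.linearIndependent_iff]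
    intro g hg
    have hg' : g 0 • w + (g 1 • w1 + g 2 • w2) = 0 := by
      rw [← hg, Fin.sum_univ_three]; simp [v, add_assoc]
    have hz : ∀ x y, T3 F x y (g 0 • w + (g 1 • w1 + g 2 • w2)) = 0 := fun x y => by
      rw [hg', ← zero_smul Ω x, h.smul3, zero_mul]
    have c2 : g 2 = 0 := by
      have := hz w z
      rw [h.add3, h.add3, h.smul3, h.smul3, h.smul3, h.symm23 w z w, hw, h.symm23 w z w1, a1, h.symm23 w z w2] at this
      have e2 := a2 z
      exact (mul_eq_zero.mp (by linear_combination this : g 2 * T3 F w w2 z = 0)).resolve_right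
        fun h0 => hne (by linear_combination e2 - h0)
    have c1 : g 1 = 0 := by
      have := hz w1 z
      rw [c2, h.add3, h.add3, h.smul3, h.smul3, h.smul3, h.symm23 w1 z w, h.symm12 w1 w, a1, h.symm23 w1 z w1] at this
      exact (mul_eq_zero.mp (by linear_combination this : g 1 * T3 F w1 w1 z = 0)).resolve_right hne
    have c0 : g 0 = 0 := by
      rw [c1, c2] at hg'
      simp only [zero_smul, add_zero] at hg'
      refine (smul_eq_zero.mp hg').resolve_right fun h0 => hne ?_
      rw [hw1, h0, show ⇑D ∘ (0 : Fin 4 → Ω) = 0 by funext i; simp, T3_zero]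
    intro i; fin_cases i <;> assumption
  have hspan3 : w3 ∈ Submodule.span Ω (Set.range v) := by
    by_contra hN
    let B := basisOfLinearIndependentOfCardEqFinrank (linearIndependent_finSnoc.mpr ⟨hv, hN⟩ :
      LinearIndependent Ω (Fin.snoc v w3 : Fin 4 → Fin 4 → Ω)) (by simp)
    refine hne ?_
    rw [← B.sum_repr z, h.sum3, Fin.sum_univ_castSucc]
    simp [B, h.smul3, b113, Fin.sum_univ_three, v, k0, b111, b112]
  have b222 : T3 F w2 w2 w2 = 0 := by
    have d := h.D_zero D b122
    rw [← hw2, ← hw3, h.symm23 w1 w3 w2] at d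
    obtain ⟨c, hc⟩ := (Submodule.mem_span_range_iff_exists_fun Ω).mp hspan3
    have : T3 F w1 w2 w3 = 0 := by
      rw [← hc, h.sum3, Fin.sum_univ_three]
      simp [v, h.smul3, b122, h.symm23 w1 w2 w1, b112, h.symm23 w1 w2 w, h.symm12 w1 w w2, a1]
    linear_combination d - 2 * this
  have y000 := hw w
  have y001 : T3 F w w w1 = 0 := hw w1
  have y002 : T3 F w w w2 = 0 := hw w2
  have y011 : T3 F w w1 w1 = 0 := a1 w1
  have y012 : T3 F w w1 w2 = 0 := a1 w2
  refine h.no_plane v hv fun i j l => ?_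
  fin_cases i <;> fin_cases j <;> fin_cases l <;> simp only [v, Fin.zero_eta, Fin.mk_one, Fin.reduceFinMk,
    Matrix.cons_val] <;>
    first
      | with_reducible assumption
      | (rw [h.symm23]; with_reducible assumption)
      | (rw [h.symm12]; with_reducible assumption)
      | (rw [h.symm12, h.symm23]; with_reducible assumption)
      | (rw [h.symm23, h.symm12]; with_reducible assumption)
      | (rw [h.symm12, h.symm23, h.symm12]; with_reducible assumption)

end Generic

end Groth.Agent.Five86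

end
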