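import Groth.Agent.TPt86.Frame

/-!
# Rational points on the tangent section at a point which is not a T-point
-/

set_option autoImplicit false
set_option maxHeartbeats 1000000

noncomputable section

namespace Groth.Agent.Five86

open MvPolynomial TPt86

variable {K : Type*} [Field K] {S : Type*} [CommRing S] [Algebra K S]

theorem Tv_cross {F : MvPolynomial (Fin 4) K} (hF : F.IsHomogeneous 3) (x y : Fin 4 → S) :
    Tv F (x + y) x - Tv F x x - Tv F y x = 2 * Tv F x y := by
  obtain ⟨s, rfl⟩ := exists_coeffs hF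
  clear hF
  induction s using Multiset.induction with
  | empty => simp [Tv, gv]
  | cons t s ih =>
    obtain ⟨a, i, j, l⟩ := t
    simp only [Multiset.map_cons, Multiset.sum_cons]
    generalize (Multiset.map (fun t : K × Fin 4 × Fin 4 × Fin 4 => C t.1 * X t.2.1 * X t.2.2.1 * X t.2.2.2) s).sum =
      G at ih ⊢
    have hT : ∀ p q : Fin 4 → S, Tv (C a * X i * X j * X l + G) p q =
        algebraMap K S a * (q i * p j * p l + p i * q j * p l + p i * p j * q l) + Tv G p q := fun p q => by
      have hsum : ∀ (m : Fin 4) (f : S), ∑ r, (if m = r then f else 0) * q r = f * q m := fun m f => by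
        simp [Finset.sum_ite_eq]
      simp only [Tv, gv, map_add, add_mul, Finset.sum_add_distrib, Derivation.leibniz, pderiv_C, pderiv_X,
        smul_eq_mul, map_mul, aeval_X, aeval_C, Pi.single_apply, apply_ite (aeval p), map_one, map_zero,
        mul_zero, add_zero, mul_ite, mul_one, mul_add, hsum]
      ring
    simp only [hT, Pi.add_apply]
    linear_combination ih

/-- The value of `F` on the pencil of two points. -/
theorem Fv_pencil {F : MvPolynomial (Fin 4) K} (hF : F.IsHomogeneous 3) (a v : Fin 4 → S) (c e : S) :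
    Fv F (c • a + e • v) = c ^ 3 * Fv F a + c ^ 2 * e * Tv F a v + c * e ^ 2 * Tv F v a + e ^ 3 * Fv F v := by
  rw [(expand_data hF (c • a) (e • v) v c).1, (expand_data hF a a a c).2.2.1, (expand_data hF v v v e).2.2.1,
    (expand_data hF a a _ c).2.2.2.1, (expand_data hF v v _ e).2.2.2.1, Tv_smul_right, Tv_smul_right]
  ring

/-- The polar of the first point along the pencil. -/
theorem Tv_pencil {F : MvPolynomial (Fin 4) K} (hF : F.IsHomogeneous 3) (a v : Fin 4 → S) (c e : S) :
    Tv F (c • a + e • v) a = c ^ 2 * Tv F a a + c * e * (2 * Tv F a v) + e ^ 2 * Tv F v a := by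
  rw [(expand_data hF a v a c).2.2.2.2.2, Tv_cross hF]

/-- Projection to the tangent plane. -/
def πv (F : MvPolynomial (Fin 4) K) (m : Fin 4) (a x : Fin 4 → S) : Fin 4 → S :=
  gv F a m • x - Tv F a x • Pi.single m 1

/-- The residual point of a line through `a`. -/
def ψv (F : MvPolynomial (Fin 4) K) (a v : Fin 4 → S) : Fin 4 → S := Fv F v • a + (-Tv F v a) • v

theorem Tv_πv (F : MvPolynomial (Fin 4) K) (m : Fin 4) (a x : Fin 4 → S) : Tv F a (πv F m a x) = 0 := by
  rw [πv, sub_eq_add_neg, ← neg_smul, Tv_add_right, Tv_smul_right, Tv_smul_right, ← gv_eq_Tv]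
  ring

theorem Fv_ψv {F : MvPolynomial (Fin 4) K} (hF : F.IsHomogeneous 3) {a v : Fin 4 → S} (haF : Fv F a = 0)
    (hv : Tv F a v = 0) : Fv F (ψv F a v) = 0 := by
  rw [ψv, Fv_pencil hF, haF, hv]; ring

theorem Tv_ψv {F : MvPolynomial (Fin 4) K} (hF : F.IsHomogeneous 3) {a v : Fin 4 → S} (haF : Fv F a = 0)
    (hv : Tv F a v = 0) : Tv F (ψv F a v) a = Tv F v a ^ 3 := by
  rw [ψv, Tv_pencil hF, (expand_data hF a a a 1).2.2.2.2.1, haF, hv]; ring

theorem ψv_smul {F : MvPolynomial (Fin 4) K} (hF : F.IsHomogeneous 3) (a v : Fin 4 → S) (c : S) :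
    ψv F a (c • v) = c ^ 3 • ψv F a v := by
  rw [ψv, ψv, (expand_data hF v v v c).2.2.1, (expand_data hF v v a c).2.2.2.1]
  funext i
  simp only [Pi.add_apply, Pi.smul_apply, smul_eq_mul]
  ring

theorem map_ψπ {S' : Type*} [CommRing S'] [Algebra K S'] (φ : S →ₐ[K] S') (F : MvPolynomial (Fin 4) K) (m : Fin 4)
    (a x : Fin 4 → S) : φ ∘ ψv F a (πv F m a x) = ψv F (φ ∘ a) (πv F m (φ ∘ a) (φ ∘ x)) := by
  have hπ : φ ∘ πv F m a x = πv F m (φ ∘ a) (φ ∘ x) := by
    funext i
    simp only [πv, Function.comp_apply, Pi.sub_apply, Pi.smul_apply, smul_eq_mul, map_sub, map_mul, map_gv, map_Tv,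
      Pi.single_apply, apply_ite φ, map_one, map_zero]
  rw [← hπ]
  funext i
  simp only [ψv, Function.comp_apply, Pi.add_apply, Pi.smul_apply, smul_eq_mul, map_add, map_mul, map_neg, map_Fv,
    map_Tv]

variable [CharZero K] [IsAlgClosed K]

/-- A point on the tangent section with prescribed open conditions, with coordinates in an infinite set. -/
theorem exists_good (R : Set K) (hR : R.Infinite) {F : MvPolynomial (Fin 4) K} (hF : F.IsHomogeneous 3)
    {a : Fin 4 → K} (ha0 : a ≠ 0) (haF : eval a F = 0) {m : Fin 4} (hm : eval a (pderiv m F) ≠ 0)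
    (ha : ¬ Split3 F a) {ι : Type*} [Fintype ι] (h : ι → Fin 4 → K)
    (hh : ∀ j, ∃ v, Tv F a v = 0 ∧ ∑ i, h j i * v i ≠ 0) :
    ∃ x : Fin 4 → K, (∀ i, x i ∈ R) ∧ ¬ Split3 F (ψv F a (πv F m a x)) ∧
      gv F (ψv F a (πv F m a x)) m ≠ 0 ∧ Tv F (ψv F a (πv F m a x)) a ≠ 0 ∧
      ∀ j, ∑ i, h j i * ψv F a (πv F m a x) i ≠ 0 := by
  classical
  obtain ⟨Ev, u₀, v₀, hΦ⟩ := exists_obstruction hF ha0 haF hm ha
  obtain ⟨N⟩ := exists_nframe hF ha0 haF hm ha
  have haF' : Fv F a = 0 := haF
  have hgm : gv F a m ≠ 0 := hm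
  have hT : ∀ u, Tv F a (N.E u) = 0 := fun u => (N.range_iff _).mp ⟨u, rfl⟩
  have hπE : ∀ u, πv F m a (N.E u) = gv F a m • N.E u := fun u => by rw [πv, hT, zero_smul, sub_zero]
  let q : (Fin 3 → K) → K := fun u => Tv F (N.E u) a
  have hψE : ∀ u, ψv F a (N.E u) = N.E (Fv F (N.E u) • ![1, 0, 0] + (-q u) • u) := fun u => by
    rw [map_add, map_smul, map_smul, N.apply_first]; rfl
  have hq : ∀ u, q u = Fv F (N.E (![1, 0, 0] + u)) - Fv F (N.E u) := fun u => by
    rw [map_add, N.apply_first, (expand_data hF a (N.E u) a 1).1, haF', hT]; ring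
  -- the three factors as polynomials
  let pt : Fin 4 → MvPolynomial (Fin 4) K := ψv F (fun i => C (a i)) (πv F m (fun i => C (a i)) fun i => X i)
  let P₁ : MvPolynomial (Fin 4) K :=
    Φv F m (fun r i => C (Ev r i)) (fun r => C (u₀ r)) (fun r => C (v₀ r)) pt
  let P₂ : MvPolynomial (Fin 4) K := Tv F pt fun i => C (a i)
  let Q : ι → MvPolynomial (Fin 4) K := fun j => ∑ i, C (h j i) * pt i
  have hpt : ∀ x : Fin 4 → K, (⇑(aeval (R := K) x)) ∘ pt = ψv F a (πv F m a x) := fun x => by
    rw [show pt = ψv F (fun i => C (a i)) (πv F m (fun i => C (a i)) fun i => X i) from rfl, map_ψπ]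
    congr 1 <;> [skip; congr 1] <;> funext i <;> simp
  have hv1 : ∀ x, eval x P₁ = Φv F m Ev u₀ v₀ (ψv F a (πv F m a x)) := fun x => by
    rw [show eval x P₁ = aeval x P₁ from (RingHom.congr_fun (coe_aeval_eq_eval x) _).symm, map_Φv, hpt]
    congr 1 <;> funext r <;> (try funext i) <;> simp
  have hv2 : ∀ x, eval x P₂ = Tv F (ψv F a (πv F m a x)) a := fun x => by
    rw [show eval x P₂ = aeval x P₂ from (RingHom.congr_fun (coe_aeval_eq_eval x) _).symm, map_Tv, hpt]
    congr 1; funext i; simp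
  have hv3 : ∀ x j, eval x (Q j) = ∑ i, h j i * ψv F a (πv F m a x) i := fun x j => by
    rw [show eval x (Q j) = aeval x (Q j) from (RingHom.congr_fun (coe_aeval_eq_eval x) _).symm, ← hpt]
    simp [Q]
  have hTne : ∀ u, q u ≠ 0 → P₂ ≠ 0 := fun u hu h0 => by
    have := hv2 (N.E u)
    rw [h0, map_zero, Tv_ψv hF haF' (Tv_πv F m a _), hπE, (expand_data hF (N.E u) a a _).2.2.2.1] at this
    exact pow_ne_zero 3 (mul_ne_zero (pow_ne_zero 2 hgm) hu) this.symm
  have hψ' : ∀ u, ψv F a (πv F m a (N.E u)) = gv F a m ^ 3 • ψv F a (N.E u) := fun u => by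
    rw [hπE, ψv_smul hF]
  have h2 : P₂ ≠ 0 := by
    refine hTne ![0, 1, 1] ?_
    rw [hq]
    rcases N.normal with ⟨-, h⟩ | ⟨-, h⟩ <;> rw [h, h] <;> simp [N.hk]
  have h3 : ∀ j, Q j ≠ 0 := by
    intro j h0
    obtain ⟨v, hv, hhv⟩ := hh j
    obtain ⟨w, rfl⟩ := (N.range_iff v).mpr hv
    let l : Fin 3 → K := fun r => ∑ i, h j i * N.E (Pi.single r 1) i
    have hl : ∀ u, ∑ i, h j i * N.E u i = lin l u := fun u => by
      conv_lhs => rw [pi_eq_sum_univ' u]
      simp only [l, lin, map_sum, map_add, map_smul, Fin.sum_univ_three, Fin.sum_univ_four, Pi.add_apply, Pi.smul_apply,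
        smul_eq_mul]
      ring
    have key : ∀ u, Fv F (N.E u) * l 0 - q u * lin l u = 0 := fun u => by
      have := hv3 (N.E u) j
      rw [h0, map_zero, hψ'] at this
      simp only [Pi.smul_apply, smul_eq_mul, mul_left_comm (h j _), ← Finset.mul_sum, hψE, hl] at this
      have := (mul_eq_zero.mp this.symm).resolve_left (pow_ne_zero 3 hgm)
      simp [lin] at this ⊢
      linear_combination this
    rcases N.normal with ⟨-, hn⟩ | ⟨-, hn⟩
    · by_cases hl0 : l 0 = 0
      · have e1 := key ![0, 1, 1]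
        have e2 := key ![0, 1, -1]
        rw [hq, hn, hn, hl0] at e1 e2
        simp [lin, N.hk, hl0] at e1 e2
        have f1 : l 1 = 0 := by linear_combination (1 / 2 : K) * e1 + (1 / 2 : K) * e2
        have f2 : l 2 = 0 := by linear_combination (1 / 2 : K) * e1 - (1 / 2 : K) * e2
        exact hhv (by rw [hl]; simp [lin, hl0, f1, f2])
      · refine N.not_prod ![0, 1, 0] ![0, 0, 1] (fun r => N.k / l 0 * l r) fun u => ?_
        have e := key u
        rw [hq, hn (![1, 0, 0] + u), hn u] at e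
        refine mul_right_cancel₀ hl0 ?_
        rw [hn u]
        simp [lin] at e ⊢
        field_simp
        exact Or.inl (by linear_combination e)
    · by_cases hl0 : l 0 = 0
      · have e1 := key ![0, 1, 1]
        have e2 := key ![0, 1, -1]
        rw [hq, hn, hn, hl0] at e1 e2
        simp [lin, N.hk, hl0] at e1 e2
        have f1 : l 1 = 0 := by linear_combination (1 / 2 : K) * e1 + (1 / 2 : K) * e2
        have f2 : l 2 = 0 := by linear_combination (1 / 2 : K) * e1 - (1 / 2 : K) * e2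
        exact hhv (by rw [hl]; simp [lin, hl0, f1, f2])
      · refine N.not_prod ![0, 1, 0] ![0, 1, 0] (fun r => N.k / l 0 * l r) fun u => ?_
        have e := key u
        rw [hq, hn (![1, 0, 0] + u), hn u] at e
        refine mul_right_cancel₀ hl0 ?_
        rw [hn u]
        simp [lin] at e ⊢
        field_simp
        exact Or.inl (by linear_combination e)
  have h1 : P₁ ≠ 0 := by
    intro h0
    have hz : ∀ u, Φv F m Ev u₀ v₀ (N.E (Fv F (N.E u) • ![1, 0, 0] + (-q u) • u)) = 0 := fun u => by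
      have := hv1 (N.E u)
      rw [h0, map_zero, hψ', Φv_smul hF] at this
      rw [← hψE]
      exact (mul_eq_zero.mp this.symm).resolve_left (pow_ne_zero _ (pow_ne_zero _ hgm))
    have hfin : ∀ c : K, c ≠ 0 → Φv F m Ev u₀ v₀ (N.E ![c, 0, 0]) ≠ 0 := fun c hc => by
      have : (![c, 0, 0] : Fin 3 → K) = c • ![1, 0, 0] := by funext i; fin_cases i <;> simp
      rw [this, map_smul, N.apply_first, Φv_smul hF]
      exact mul_ne_zero (pow_ne_zero _ hc) hΦ
    have hpt0 : ∀ (u : Fin 3 → K) (c : K), c ≠ 0 →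
        Fv F (N.E u) • ![1, 0, 0] + (-q u) • u = (![c, 0, 0] : Fin 3 → K) → False := fun u c hc he =>
      hfin c hc (he ▸ hz u)
    rcases N.normal with ⟨hne, hn⟩ | ⟨hne, hn⟩
    · rcases hne with hc | hc
      · refine hpt0 ![0, 1, 0] N.c0 hc ?_
        funext i; fin_cases i <;> simp [hq, hn, cu]
      · refine hpt0 ![0, 0, 1] N.c3 hc ?_
        funext i; fin_cases i <;> simp [hq, hn, cu]
    · by_cases hc : N.c3 = 0
      · have h2 : N.c2 ≠ 0 := hne.resolve_right (not_not.mpr hc)
        let p : Fin 3 → Polynomial K :=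
          ![Polynomial.C N.c0 * Polynomial.X ^ 2 + Polynomial.C N.c1 * Polynomial.X + Polynomial.C N.c2,
            -(Polynomial.C N.k * Polynomial.X ^ 2), -(Polynomial.C N.k * Polynomial.X)]
        have hP : IsPolyFun (fun w => Φv F m Ev u₀ v₀ (N.E w)) := fun p => by
          refine ⟨Φv F m (fun r i => Polynomial.C (Ev r i)) (fun r => Polynomial.C (u₀ r))
            (fun r => Polynomial.C (v₀ r)) (fun i => ∑ r, p r * Polynomial.C (N.E (Pi.single r 1) i)), fun t => ?_⟩
          rw [← Polynomial.coe_aeval_eq_eval, map_Φv]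
          show Φv F m _ _ _ _ = Φv F m Ev u₀ v₀ (N.E fun r => (p r).eval t)
          congr 1
          · funext r i; simp
          · funext r; simp
          · funext r; simp
          · funext i
            conv_rhs => rw [pi_eq_sum_univ' (fun r => (p r).eval t)]
            simp [map_sum, Finset.sum_apply, Polynomial.eval_finsetSum]
        have hF0 := finite_roots_curve hP p 0 (by
          have : (fun i => (p i).eval 0) = ![N.c2, 0, 0] := by funext i; fin_cases i <;> simp [p]
          rw [this]; exact hfin _ h2)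
        obtain ⟨t, ht⟩ := (hF0.union (Set.finite_singleton (0 : K))).exists_notMem
        refine ht ?_
        by_cases ht0 : t = 0
        · exact Or.inr ht0
        · refine Or.inl ?_
          have hw : Fv F (N.E ![0, t, 1]) • ![1, 0, 0] + (-q ![0, t, 1]) • (![0, t, 1] : Fin 3 → K) =
              t • fun i => (p i).eval t := by
            funext i; fin_cases i <;> simp [hq, hn, cu, hc, p] <;> ring
          have := hz ![0, t, 1]
          rw [hw, map_smul, Φv_smul hF] at this
          exact (mul_eq_zero.mp this).resolve_left (pow_ne_zero _ ht0)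
      · refine hpt0 ![0, 0, 1] N.c3 hc ?_
        funext i; fin_cases i <;> simp [hq, hn, cu]
  have hprod : P₁ * P₂ * ∏ j, Q j ≠ 0 := mul_ne_zero (mul_ne_zero h1 h2) (Finset.prod_ne_zero_iff.mpr fun j _ => h3 j)
  obtain ⟨x, hxR, hx⟩ : ∃ x : Fin 4 → K, (∀ i, x i ∈ R) ∧ eval x (P₁ * P₂ * ∏ j, Q j) ≠ 0 := by
    by_contra! h0
    exact hprod (MvPolynomial.funext_set (fun _ => R) (fun _ => hR) fun x hx => by
      rw [h0 x (fun i => hx i trivial), map_zero])
  simp only [map_mul, map_prod, mul_ne_zero_iff, Finset.prod_ne_zero_iff] at hx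
  obtain ⟨⟨hx1, hx2⟩, hx3⟩ := hx
  rw [hv1] at hx1
  refine ⟨x, hxR, fun hs => hx1 (Φv_eq_zero hs m Ev u₀ v₀), fun hg => hx1 ?_, by rwa [hv2] at hx2,
    fun j => by simpa [hv3] using hx3 j (Finset.mem_univ j)⟩
  rw [Φv, hg, zero_mul]

end Groth.Agent.Five86

end
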