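import Groth.Agent.Five86.Core

/-!
# The generic point of a cubic surface with its derivations
-/

set_option autoImplicit false
set_option maxHeartbeats 1000000

noncomputable section

namespace Groth.Agent.Five86

open TPt86 TensorProduct

universe u

variable {K : Type u} [Field K]

/-- The parameters: coordinates on the hyperplane `x m = 0`. -/
def pp (m i : Fin 4) : MvPolynomial (Fin 3) K := Fin.insertNth (α := fun _ => MvPolynomial (Fin 3) K) m 0 MvPolynomial.X i

/-- The linear change of coordinates `x = p + T q`. -/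
def pencil (m : Fin 4) (q : Fin 4 → K) : MvPolynomial (Fin 4) K →ₐ[K] Polynomial (MvPolynomial (Fin 3) K) :=
  MvPolynomial.aeval fun i => Polynomial.C (pp m i) + Polynomial.C (MvPolynomial.C (q i)) * Polynomial.X

/-- The inverse of `pencil`. -/
def unpencil (m : Fin 4) (q : Fin 4 → K) : Polynomial (MvPolynomial (Fin 3) K) →+* MvPolynomial (Fin 4) K :=
  Polynomial.eval₂RingHom (MvPolynomial.aeval (R := K) fun r => MvPolynomial.X (m.succAbove r) -
    MvPolynomial.C ((q m)⁻¹ * q (m.succAbove r)) * MvPolynomial.X m).toRingHom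
    (MvPolynomial.C (q m)⁻¹ * MvPolynomial.X m)

theorem unpencil_pencil {m : Fin 4} {q : Fin 4 → K} (hq : q m ≠ 0) (p : MvPolynomial (Fin 4) K) :
    unpencil m q (pencil m q p) = p := by
  induction p using MvPolynomial.induction_on with
  | C a => simp [pencil, unpencil, ← MvPolynomial.algebraMap_eq]
  | add p r hp hr => simp [hp, hr]
  | mul_X p i hp =>
    rw [map_mul, map_mul, hp]
    congr 1
    induction i using Fin.succAboveCases m with
    | x =>
      simp [pencil, unpencil, pp]
      rw [← mul_assoc, ← map_mul, mul_inv_cancel₀ hq, map_one, one_mul]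
    | p r =>
      simp [pencil, unpencil, pp]
      ring

theorem pencil_unpencil {m : Fin 4} {q : Fin 4 → K} (hq : q m ≠ 0) (p : Polynomial (MvPolynomial (Fin 3) K)) :
    pencil m q (unpencil m q p) = p := by
  induction p using Polynomial.induction_on' with
  | add p r hp hr => simp [hp, hr]
  | monomial n c =>
    rw [← Polynomial.C_mul_X_pow_eq_monomial, map_mul, map_pow, map_mul, map_pow]
    have hX : pencil m q (unpencil m q Polynomial.X) = Polynomial.X := by
      simp [pencil, unpencil, pp]
      rw [← mul_assoc, ← map_mul, ← map_mul, inv_mul_cancel₀ hq, map_one, map_one, one_mul]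
    rw [hX]
    congr 1
    induction c using MvPolynomial.induction_on with
    | C a => simp [pencil, unpencil, ← MvPolynomial.algebraMap_eq]
    | add p r hp hr => simp [hp, hr]
    | mul_X p r hp =>
      rw [map_mul, map_mul, map_mul, hp]
      congr 1
      simp [pencil, unpencil, pp, mul_inv_cancel₀, hq]
      have hu : Polynomial.C (MvPolynomial.C (q m)⁻¹) * Polynomial.C (MvPolynomial.C (q m)) =
          (1 : Polynomial (MvPolynomial (Fin 3) K)) := by
        rw [← map_mul, ← map_mul, inv_mul_cancel₀ hq, map_one, map_one]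
      linear_combination -(Polynomial.C (MvPolynomial.C (q (m.succAbove r))) * Polynomial.X) * hu

/-- `pencil` as an equivalence. -/
def pencilEquiv (m : Fin 4) (q : Fin 4 → K) (hq : q m ≠ 0) :
    MvPolynomial (Fin 4) K ≃+* Polynomial (MvPolynomial (Fin 3) K) :=
  { toFun := pencil m q
    invFun := unpencil m q
    left_inv := unpencil_pencil hq
    right_inv := pencil_unpencil hq
    map_mul' := map_mul _
    map_add' := map_add _ }

/-- The monic cubic of the line through the parameter in direction `q`. -/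
def lineCubic (F : MvPolynomial (Fin 4) K) (m : Fin 4) (q : Fin 4 → K) : Polynomial (MvPolynomial (Fin 3) K) :=
  let pC : Fin 4 → MvPolynomial (Fin 3) K := pp m
  let qC : Fin 4 → MvPolynomial (Fin 3) K := fun i => MvPolynomial.C (q i)
  let e := MvPolynomial.C (MvPolynomial.eval q F)⁻¹
  Polynomial.X ^ 3 + Polynomial.C (e * Tv F qC pC) * Polynomial.X ^ 2 + Polynomial.C (e * Tv F pC qC) * Polynomial.X +
    Polynomial.C (e * Fv F pC)

theorem lineCubic_monic (F : MvPolynomial (Fin 4) K) (m : Fin 4) (q : Fin 4 → K) :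
    (lineCubic F m q).Monic ∧ (lineCubic F m q).natDegree = 3 := by
  rw [lineCubic]
  constructor
  · monicity!
  · compute_degree!

theorem pencil_eq {F : MvPolynomial (Fin 4) K} (hF : F.IsHomogeneous 3) (m : Fin 4) {q : Fin 4 → K}
    (hFq : MvPolynomial.eval q F ≠ 0) :
    pencil m q F = Polynomial.C (MvPolynomial.C (MvPolynomial.eval q F)) * lineCubic F m q := by
  let Cp : MvPolynomial (Fin 3) K →ₐ[K] Polynomial (MvPolynomial (Fin 3) K) :=
    IsScalarTower.toAlgHom K (MvPolynomial (Fin 3) K) (Polynomial (MvPolynomial (Fin 3) K))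
  let pC : Fin 4 → MvPolynomial (Fin 3) K := pp m
  let qC : Fin 4 → MvPolynomial (Fin 3) K := fun i => MvPolynomial.C (q i)
  have hv : (fun i => Polynomial.C (pp m i) + Polynomial.C (MvPolynomial.C (q i)) * Polynomial.X) =
      (1 : Polynomial (MvPolynomial (Fin 3) K)) • (Cp ∘ pC) +
        (Polynomial.X : Polynomial (MvPolynomial (Fin 3) K)) • (Cp ∘ qC) := by
    funext i
    simp only [Cp, pC, qC, Pi.add_apply, Pi.smul_apply, Function.comp_apply, IsScalarTower.coe_toAlgHom',
      Polynomial.algebraMap_eq, smul_eq_mul, one_mul]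
    rw [mul_comm (Polynomial.X : Polynomial (MvPolynomial (Fin 3) K))]
  have hval : Fv F qC = MvPolynomial.C (MvPolynomial.eval q F) := by
    rw [Fv, ← MvPolynomial.algebraMap_eq, show qC = (Algebra.ofId K (MvPolynomial (Fin 3) K)) ∘ q from rfl]
    exact (MvPolynomial.comp_aeval_apply q (Algebra.ofId K (MvPolynomial (Fin 3) K)) F).symm
  show Fv F _ = _
  rw [hv, Fv_pencil hF]
  simp only [lineCubic]
  have he : MvPolynomial.C (MvPolynomial.eval q F) * MvPolynomial.C (MvPolynomial.eval q F)⁻¹ =
      (1 : MvPolynomial (Fin 3) K) := by rw [← map_mul, mul_inv_cancel₀ hFq, map_one]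
  have he' : Polynomial.C (MvPolynomial.C (MvPolynomial.eval q F)) *
      Polynomial.C (MvPolynomial.C (MvPolynomial.eval q F)⁻¹) = (1 : Polynomial (MvPolynomial (Fin 3) K)) := by
    rw [← map_mul, he, map_one]
  rw [← map_Fv Cp F pC, ← map_Fv Cp F qC, ← map_Tv Cp F pC qC, ← map_Tv Cp F qC pC, hval]
  simp only [Cp, IsScalarTower.coe_toAlgHom', Polynomial.algebraMap_eq, map_mul, pC, qC]
  linear_combination -(Polynomial.C (Tv F qC (pp m)) * Polynomial.X ^ 2 + Polynomial.C (Tv F (pp m) qC) * Polynomial.X +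
    Polynomial.C (Fv F (pp m))) * he'

theorem lineCubic_irreducible {F : MvPolynomial (Fin 4) K} (hF : F.IsHomogeneous 3) (hirr : Irreducible F)
    {m : Fin 4} {q : Fin 4 → K} (hq : q m ≠ 0) (hFq : MvPolynomial.eval q F ≠ 0) :
    Irreducible (lineCubic F m q) := by
  have h1 : Irreducible (pencil m q F) := (MulEquiv.irreducible_iff (pencilEquiv m q hq)).mpr hirr
  rw [pencil_eq hF m hFq] at h1
  refine (irreducible_isUnit_mul ?_).mp h1
  exact Polynomial.isUnit_C.mpr ((isUnit_iff_ne_zero.mpr hFq).map MvPolynomial.C)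

variable [CharZero K]

theorem lineCubic_irreducible_frac {F : MvPolynomial (Fin 4) K} (hF : F.IsHomogeneous 3) (hirr : Irreducible F)
    {m : Fin 4} {q : Fin 4 → K} (hq : q m ≠ 0) (hFq : MvPolynomial.eval q F ≠ 0) :
    Irreducible ((lineCubic F m q).map
      (algebraMap (MvPolynomial (Fin 3) K) (FractionRing (MvPolynomial (Fin 3) K)))) :=
  ((lineCubic_monic F m q).1.irreducible_iff_irreducible_map_fraction_map).mp (lineCubic_irreducible hF hirr hq hFq)

/-- Polynomials with vanishing partial derivatives are constant. -/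
theorem eq_C_of_pderiv {σ : Type*} {p : MvPolynomial σ K} (h : ∀ i, MvPolynomial.pderiv i p = 0) :
    p = MvPolynomial.C (MvPolynomial.coeff 0 p) := by
  classical
  ext d
  rw [MvPolynomial.coeff_C]
  split_ifs with hd
  · rw [hd]
  · obtain ⟨i, hi⟩ : ∃ i, d i ≠ 0 := by
      by_contra! hall
      exact hd (Finsupp.ext fun i => (hall i).symm)
    have hle : Finsupp.single i 1 ≤ d := Finsupp.single_le_iff.mpr (Nat.one_le_iff_ne_zero.mpr hi)
    have e := MvPolynomial.coeff_pderiv (i := i) p (d - Finsupp.single i 1)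
    rw [h i, MvPolynomial.coeff_zero, tsub_add_cancel_of_le hle] at e
    exact (mul_eq_zero.mp e.symm).resolve_right (by norm_cast)

theorem dvd_pderiv_eq_zero {σ : Type*} {Q : MvPolynomial σ K} (hQ : Q ≠ 0) {i : σ}
    (h : Q ∣ MvPolynomial.pderiv i Q) : MvPolynomial.pderiv i Q = 0 := by
  classical
  by_contra hne
  obtain ⟨c, hc⟩ := h
  have h1 : Q.totalDegree ≤ (MvPolynomial.pderiv i Q).totalDegree := by
    rw [hc, MvPolynomial.totalDegree_mul_of_isDomain hQ (fun h0 => hne (by rw [hc, h0, mul_zero]))]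
    omega
  obtain ⟨d, hd, hdeg⟩ := Finset.exists_mem_eq_sup _
    (MvPolynomial.support_nonempty.mpr hne) (fun d : σ →₀ ℕ => d.sum fun _ e => e)
  have hd' : d + Finsupp.single i 1 ∈ Q.support := by
    rw [MvPolynomial.mem_support_iff, MvPolynomial.coeff_pderiv] at hd
    exact MvPolynomial.mem_support_iff.mpr (left_ne_zero_of_mul hd)
  have h2 := MvPolynomial.le_totalDegree hd'
  rw [Finsupp.sum_add_index (by simp) (by simp), Finsupp.sum_single_index rfl] at h2
  unfold MvPolynomial.totalDegree at h1 h2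
  omega

/-- The field of functions. -/
abbrev Fun3 (K : Type u) [Field K] := FractionRing (MvPolynomial (Fin 3) K)

/-- Its algebraic closure. -/
abbrev Fun3bar (K : Type u) [Field K] := AlgebraicClosure (Fun3 K)

theorem exists_derivation (v : Fin 3 → Fun3bar K) :
    ∃ D : Derivation K (Fun3bar K) (Fun3bar K),
      ∀ p : MvPolynomial (Fin 3) K, D (algebraMap _ _ p) = MvPolynomial.mkDerivation K v p := by
  have h1 : Algebra.FormallyEtale (MvPolynomial (Fin 3) K) (Fun3 K) :=
    Algebra.FormallyEtale.of_isLocalization (nonZeroDivisors (MvPolynomial (Fin 3) K))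
  have h2 : Algebra.FormallyEtale (Fun3 K) (Fun3bar K) := Algebra.FormallyEtale.of_isSeparable _ _
  have h3 : Algebra.FormallyEtale (MvPolynomial (Fin 3) K) (Fun3bar K) :=
    Algebra.FormallyEtale.comp (MvPolynomial (Fin 3) K) (Fun3 K) (Fun3bar K)
  let δ : Derivation K (MvPolynomial (Fin 3) K) (Fun3bar K) := MvPolynomial.mkDerivation K v
  let l := (δ.liftKaehlerDifferential.liftBaseChange (Fun3bar K)) ∘ₗ
    (KaehlerDifferential.tensorKaehlerEquivOfFormallyEtale K (MvPolynomial (Fin 3) K) (Fun3bar K)).symm.toLinearMap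
  refine ⟨l.compDer (KaehlerDifferential.D K (Fun3bar K)), fun p => ?_⟩
  show l (KaehlerDifferential.D K (Fun3bar K) (algebraMap _ _ p)) = _
  simp only [l, LinearMap.comp_apply, LinearEquiv.coe_coe,
    KaehlerDifferential.tensorKaehlerEquivOfFormallyEtale_symm_D_algebraMap, LinearMap.liftBaseChange_tmul, one_smul,
    Derivation.liftKaehlerDifferential_comp_D]
  rfl

variable [IsAlgClosed K]

theorem constants (z : Fun3bar K) (hz : ∀ D : Derivation K (Fun3bar K) (Fun3bar K), D z = 0) :
    z ∈ Set.range (algebraMap K (Fun3bar K)) := by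
  classical
  let P := minpoly (Fun3 K) z
  have hint : IsIntegral (Fun3 K) z := Algebra.IsIntegral.isIntegral z
  have hmon : P.Monic := minpoly.monic hint
  have hD : ∀ i : Fin 3, ∃ D : Derivation K (Fun3bar K) (Fun3bar K),
      ∀ p, D (algebraMap (MvPolynomial (Fin 3) K) (Fun3bar K) p) = algebraMap _ _ (MvPolynomial.pderiv i p) := by
    intro i
    obtain ⟨D, hD⟩ := exists_derivation (K := K) (Pi.single i 1)
    refine ⟨D, fun p => ?_⟩
    rw [hD]
    induction p using MvPolynomial.induction_on with
    | C a => simp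
    | add p r hp hr => simp [hp, hr]
    | mul_X p r hp =>
      simp only [Derivation.leibniz, MvPolynomial.mkDerivation_X, MvPolynomial.pderiv_X, Algebra.smul_def, hp,
        smul_eq_mul, map_add, map_mul]
      by_cases hr : r = i <;> simp [Pi.single_apply, hr, Ne.symm]
  choose D hD using hD
  have hb : ∀ p : MvPolynomial (Fin 3) K, algebraMap (Fun3 K) (Fun3bar K) (algebraMap _ (Fun3 K) p) =
      algebraMap _ (Fun3bar K) p := fun p => (IsScalarTower.algebraMap_apply _ _ _ p).symm
  -- a derivation preserves the function field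
  let dL : Fin 3 → Fun3 K → Fun3 K := fun i c =>
    (algebraMap _ (Fun3 K) (MvPolynomial.pderiv i (IsFractionRing.num (MvPolynomial (Fin 3) K) c)) -
      c * algebraMap _ (Fun3 K) (MvPolynomial.pderiv i (IsFractionRing.den (MvPolynomial (Fin 3) K) c : MvPolynomial (Fin 3) K))) /
      algebraMap _ (Fun3 K) (IsFractionRing.den (MvPolynomial (Fin 3) K) c : MvPolynomial (Fin 3) K)
  have hden : ∀ c : Fun3 K, algebraMap _ (Fun3 K)
      (IsFractionRing.den (MvPolynomial (Fin 3) K) c : MvPolynomial (Fin 3) K) ≠ 0 := fun c =>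
    IsLocalization.to_map_ne_zero_of_mem_nonZeroDivisors _ le_rfl (IsFractionRing.den _ c).2
  have hdL : ∀ i c, D i (algebraMap _ (Fun3bar K) c) = algebraMap _ (Fun3bar K) (dL i c) := by
    intro i c
    have h0 := (IsFractionRing.num_mul_den_eq_num_iff_eq (A := MvPolynomial (Fin 3) K) (x := c) (y := c)).mpr rfl
    have h1 := congrArg (D i ∘ algebraMap (Fun3 K) (Fun3bar K)) h0
    simp only [Function.comp_apply, map_mul, Derivation.leibniz, smul_eq_mul, hb, hD] at h1
    have hne := hden c
    rw [← map_ne_zero (algebraMap (Fun3 K) (Fun3bar K)), hb] at hne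
    simp only [dL, map_div₀, map_sub, map_mul, hb]
    rw [eq_div_iff hne]
    linear_combination h1
  have hcoef : ∀ i n, dL i (P.coeff n) = 0 := by
    intro i n
    have hroot := minpoly.aeval (Fun3 K) z
    rw [Polynomial.aeval_eq_sum_range] at hroot
    have hDz := congrArg (D i) hroot
    simp only [map_sum, Algebra.smul_def, Derivation.leibniz, Derivation.leibniz_pow, hz, smul_eq_mul, mul_zero,
      smul_zero, zero_add, map_zero, hdL] at hDz
    rw [Finset.sum_range_succ, hmon.coeff_natDegree] at hDz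
    have h1 : dL i 1 = 0 := (algebraMap (Fun3 K) (Fun3bar K)).injective (by
      rw [← hdL, map_one, map_zero, Derivation.map_one_eq_zero])
    rw [h1, map_zero, mul_zero, add_zero] at hDz
    let R : Polynomial (Fun3 K) := ∑ m ∈ Finset.range P.natDegree, Polynomial.monomial m (dL i (P.coeff m))
    have hR : R = 0 := by
      by_contra hne
      have h2 := minpoly.degree_le_of_ne_zero (Fun3 K) z hne (by
        simp only [R, map_sum, Polynomial.aeval_monomial]
        rw [← hDz]
        exact Finset.sum_congr rfl fun m _ => mul_comm _ _)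
      have h3 : R.degree < P.degree := by
        rw [Polynomial.degree_eq_natDegree hmon.ne_zero]
        refine lt_of_le_of_lt (Polynomial.degree_sum_le _ _) ?_
        refine (Finset.sup_lt_iff (WithBot.bot_lt_coe _)).mpr fun m hm => ?_
        exact lt_of_le_of_lt (Polynomial.degree_monomial_le _ _) (by exact_mod_cast Finset.mem_range.mp hm)
      exact absurd h2 (not_le.mpr h3)
    rcases lt_trichotomy n P.natDegree with hn | hn | hn
    · have := congrArg (fun r => Polynomial.coeff r n) hR
      simpa [R, Polynomial.coeff_monomial, hn] using this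
    · rw [hn, hmon.coeff_natDegree, h1]
    · rw [Polynomial.coeff_eq_zero_of_natDegree_lt hn]
      exact (algebraMap (Fun3 K) (Fun3bar K)).injective (by rw [← hdL, map_zero, map_zero])
  have hconst : ∀ n, ∃ a : K, algebraMap K (Fun3 K) a = P.coeff n := by
    intro n
    generalize hc : P.coeff n = c
    have hdc : ∀ i, dL i c = 0 := fun i => hc ▸ hcoef i n
    set N := IsFractionRing.num (MvPolynomial (Fin 3) K) c with hN
    obtain ⟨Q, hQdef⟩ : ∃ Q, Q = (IsFractionRing.den (MvPolynomial (Fin 3) K) c : MvPolynomial (Fin 3) K) := ⟨_, rfl⟩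
    have hQ0 : Q ≠ 0 := hQdef ▸ nonZeroDivisors.ne_zero (IsFractionRing.den _ c).2
    have hmul : c * algebraMap _ (Fun3 K) Q = algebraMap _ (Fun3 K) N := by
      rw [hQdef]; exact (IsFractionRing.num_mul_den_eq_num_iff_eq (x := c) (y := c)).mpr rfl
    have heq : ∀ i, MvPolynomial.pderiv i N * Q = N * MvPolynomial.pderiv i Q := fun i => by
      apply IsFractionRing.injective (MvPolynomial (Fin 3) K) (Fun3 K)
      have h1 := (div_eq_zero_iff.mp (hdc i)).resolve_right (hden c)
      rw [← hQdef, ← hN] at h1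
      rw [map_mul, map_mul]
      linear_combination (algebraMap _ (Fun3 K) Q) * h1 + (algebraMap _ (Fun3 K) (MvPolynomial.pderiv i Q)) * hmul
    have hrel : IsRelPrime Q N := by
      rw [hQdef]; exact (IsFractionRing.num_den_reduced (MvPolynomial (Fin 3) K) c).symm
    have hQd : ∀ i, MvPolynomial.pderiv i Q = 0 := fun i => dvd_pderiv_eq_zero hQ0
      (hrel.dvd_of_dvd_mul_left ⟨MvPolynomial.pderiv i N, by rw [← heq i, mul_comm]⟩)
    have hNd : ∀ i, MvPolynomial.pderiv i N = 0 := fun i => by
      have := heq i; rw [hQd i, mul_zero] at this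
      exact (mul_eq_zero.mp this).resolve_right hQ0
    have hq0 : MvPolynomial.coeff 0 Q ≠ 0 := fun h0 => hQ0 (by rw [eq_C_of_pderiv hQd, h0, map_zero])
    refine ⟨MvPolynomial.coeff 0 N / MvPolynomial.coeff 0 Q, ?_⟩
    rw [eq_C_of_pderiv hQd, eq_C_of_pderiv hNd] at hmul
    rw [← MvPolynomial.algebraMap_eq, ← IsScalarTower.algebraMap_apply, ← IsScalarTower.algebraMap_apply] at hmul
    rw [map_div₀, ← hmul, mul_div_cancel_right₀ _ ((map_ne_zero _).mpr hq0)]
  choose a ha using hconst
  let PK : Polynomial K := ∑ n ∈ Finset.range (P.natDegree + 1), Polynomial.monomial n (a n)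
  have hPK : PK.map (algebraMap K (Fun3 K)) = P := by
    rw [P.as_sum_range]
    simp only [PK, Polynomial.map_sum, Polynomial.map_monomial, ha]
  have hintK : IsIntegral K z := by
    refine ⟨PK, Polynomial.monic_of_injective (algebraMap K (Fun3 K)).injective (hPK ▸ hmon), ?_⟩
    rw [← Polynomial.aeval_def, ← Polynomial.aeval_map_algebraMap (Fun3 K), hPK]
    exact minpoly.aeval _ _
  exact minpoly.degree_eq_one_iff.mp (IsAlgClosed.degree_eq_one_of_irreducible K (minpoly.irreducible hintK))

/-- A generic point exists. -/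
theorem exists_generic (F : MvPolynomial (Fin 4) K) (hF : F.IsHomogeneous 3) (hirr : Irreducible F)
    (hcone : ¬ ∃ v : Fin 4 → K, v ≠ 0 ∧ ∑ i : Fin 4, v i • MvPolynomial.pderiv i F = 0) :
    ∃ ξ : Fin 4 → Fun3bar K, Generic F ξ := by
  classical
  obtain ⟨q, hFq⟩ : ∃ q, MvPolynomial.eval q F ≠ 0 := by
    by_contra! hall
    exact hirr.ne_zero (MvPolynomial.funext fun q => by rw [hall q, map_zero])
  obtain ⟨m, hq⟩ : ∃ m, q m ≠ 0 := by
    by_contra! hall
    apply hFq
    rw [show q = (0 : Fin 4 → K) from funext hall, MvPolynomial.eval_zero, MvPolynomial.constantCoeff_eq]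
    exact hF.coeff_eq_zero (by simp)
  let ι := algebraMap (MvPolynomial (Fin 3) K) (Fun3bar K)
  let g := (lineCubic F m q).map (algebraMap (MvPolynomial (Fin 3) K) (Fun3 K))
  have hg : Irreducible g := lineCubic_irreducible_frac hF hirr hq hFq
  have hgm : g.Monic := (lineCubic_monic F m q).1.map _
  have hg3 : g.natDegree = 3 := by rw [(lineCubic_monic F m q).1.natDegree_map, (lineCubic_monic F m q).2]
  obtain ⟨s, hs⟩ := IsAlgClosed.exists_aeval_eq_zero (Fun3bar K) g
    (by rw [Polynomial.degree_eq_natDegree hgm.ne_zero, hg3]; norm_num)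
  let p' : Fin 4 → Fun3bar K := ι ∘ pp m
  let q' : Fin 4 → Fun3bar K := fun i => algebraMap K (Fun3bar K) (q i)
  let ξ : Fin 4 → Fun3bar K := p' + s • q'
  have hval : ∀ p : MvPolynomial (Fin 4) K, MvPolynomial.aeval ξ p = Polynomial.aeval s (pencil m q p) := by
    intro p
    induction p using MvPolynomial.induction_on with
    | C a =>
      simp [pencil]
      rw [← MvPolynomial.algebraMap_eq, ← IsScalarTower.algebraMap_apply]
    | add p r hp hr => simp [hp, hr]
    | mul_X p i hp =>
      rw [map_mul, map_mul, map_mul, hp]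
      congr 1
      simp only [ξ, p', q', pencil, ι, MvPolynomial.aeval_X, Pi.add_apply, Pi.smul_apply, Function.comp_apply,
        smul_eq_mul, map_add, map_mul, Polynomial.aeval_C, Polynomial.aeval_X]
      rw [IsScalarTower.algebraMap_apply K (MvPolynomial (Fin 3) K) (Fun3bar K), MvPolynomial.algebraMap_eq, mul_comm s]
  have hdvd : ∀ p, MvPolynomial.aeval ξ p = 0 → F ∣ p := by
    intro p hp
    rw [hval, ← Polynomial.aeval_map_algebraMap (Fun3 K)] at hp
    have h1 : g ∣ (pencil m q p).map (algebraMap (MvPolynomial (Fin 3) K) (Fun3 K)) := by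
      have := minpoly.dvd (Fun3 K) s hp
      rwa [← minpoly.eq_of_irreducible_of_monic hg hs hgm] at this
    have h2 : lineCubic F m q ∣ pencil m q p :=
      (Polynomial.map_dvd_map _ (IsFractionRing.injective _ _) (lineCubic_monic F m q).1).mp h1
    have h3 : pencil m q F ∣ pencil m q p := by
      rw [pencil_eq hF m hFq]
      exact (Polynomial.isUnit_C.mpr ((isUnit_iff_ne_zero.mpr hFq).map MvPolynomial.C)).mul_left_dvd.mpr h2
    exact (map_dvd_iff (pencilEquiv m q hq)).mp h3
  have hsmall : ∀ (d : ℕ) (p : MvPolynomial (Fin 4) K), d < 3 → p.IsHomogeneous d → MvPolynomial.aeval ξ p = 0 →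
      p = 0 := by
    intro d p hd hp h0
    by_contra hp0
    obtain ⟨c, hc⟩ := hdvd p h0
    have hc0 : c ≠ 0 := fun h => hp0 (by rw [hc, h, mul_zero])
    have h1 := congrArg MvPolynomial.totalDegree hc
    rw [MvPolynomial.totalDegree_mul_of_isDomain hirr.ne_zero hc0, hp.totalDegree hp0,
      hF.totalDegree hirr.ne_zero] at h1
    omega
  have honS : Fv F ξ = 0 := by
    show MvPolynomial.aeval ξ F = 0
    rw [hval, pencil_eq hF m hFq, map_mul, ← Polynomial.aeval_map_algebraMap (Fun3 K) s (lineCubic F m q), hs,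
      mul_zero]
  have hgrad : Tv F ξ q' ≠ 0 := by
    intro h0
    let T : MvPolynomial (Fin 4) K := ∑ i, q i • MvPolynomial.pderiv i F
    have hT : T.IsHomogeneous 2 := MvPolynomial.IsHomogeneous.sum _ _ _ fun i _ => by
      rw [MvPolynomial.smul_eq_C_mul]
      exact MvPolynomial.IsHomogeneous.C_mul (by simpa using hF.pderiv (i := i)) _
    have hT0 := hsmall 2 T (by norm_num) hT (by
      rw [← h0]; simp [T, Tv, gv, q', Algebra.smul_def, mul_comm])
    exact hcone ⟨q, fun h => hq (congrFun h m), hT0⟩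
  refine ⟨ξ, hF, honS, ?_, fun v hv => ?_, constants, hsmall, fun g hg => ?_, hcone⟩
  · by_contra! hall
    exact hgrad (by simp [Tv, hall])
  · let c := v m / q' m
    have hq' : q' m ≠ 0 := (map_ne_zero _).mpr hq
    obtain ⟨D, hD⟩ := exists_derivation (K := K) fun r => v (m.succAbove r) - c * q' (m.succAbove r)
    have hp' : ∀ i, D (p' i) = v i - c * q' i := fun i => by
      induction i using Fin.succAboveCases m with
      | x => simp [p', pp, c, hq']
      | p r => simp [p', pp, ι, hD]
    have hDξ : ⇑D ∘ ξ = v + (D s - c) • q' := funext fun i => by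
      simp only [ξ, Function.comp_apply, Pi.add_apply, Pi.smul_apply, smul_eq_mul, map_add, Derivation.leibniz,
        hp', show D (q' i) = 0 from D.map_algebraMap _, mul_zero, zero_add]
      ring
    have h3 : T3 F ξ ξ ξ = 0 := by rw [(T3_props hF ξ ξ ξ).2.2.1, honS, mul_zero]
    have h4 := congrArg D h3
    rw [D_T3 (R := K) F D, map_zero, (T3_props hF (⇑D ∘ ξ) ξ ξ).1, (T3_props hF ξ (⇑D ∘ ξ) ξ).2.1,
      (T3_props hF ξ (⇑D ∘ ξ) ξ).2.2.2.1] at h4
    have h5 : Tv F ξ (⇑D ∘ ξ) = 0 := by linear_combination h4 / 6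
    rw [hDξ, Tv_add_right, Tv_smul_right, hv, zero_add] at h5
    exact ⟨D, by rw [hDξ, (mul_eq_zero.mp h5).resolve_right hgrad, zero_smul, add_zero]⟩
  · by_contra! hall
    obtain ⟨j, hj⟩ : ∃ j, g j ≠ 0 := by
      by_contra! hz; exact hg (funext hz)
    obtain ⟨c, hc⟩ := Ideal.mem_span_singleton'.mp (mem_span_of_vanish hj F hall)
    have hl : (∑ i, MvPolynomial.C (g i) * MvPolynomial.X i : MvPolynomial (Fin 4) K).IsHomogeneous 1 :=
      MvPolynomial.IsHomogeneous.sum _ _ _ fun i _ =>
        MvPolynomial.IsHomogeneous.C_mul (MvPolynomial.isHomogeneous_X K i) _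
    rcases hirr.isUnit_or_isUnit hc.symm with hu | hu
    · obtain ⟨r, -, rfl⟩ := (MvPolynomial.isUnit_iff_eq_C_of_isReduced (σ := Fin 4) (R := K)).mp hu
      have := MvPolynomial.IsHomogeneous.inj_right hF (hc ▸ hl.C_mul r) hirr.ne_zero
      omega
    · obtain ⟨r, -, hr⟩ := (MvPolynomial.isUnit_iff_eq_C_of_isReduced (σ := Fin 4) (R := K)).mp hu
      have h0 := MvPolynomial.IsHomogeneous.inj_right hl (hr ▸ MvPolynomial.isHomogeneous_C _ r)
        (fun h => hirr.ne_zero (by rw [← hc, h, mul_zero]))
      omega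

end Groth.Agent.Five86

end
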