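import Mathlib

/-!
# Five points in general position
-/

set_option autoImplicit false

noncomputable section

namespace Groth.Agent.Five86

variable {k : Type*} [Field k]

theorem exists_functional {n : ℕ} (hn : n < 4) (v : Fin n → Fin 4 → k) :
    ∃ h : Fin 4 → k, h ≠ 0 ∧ ∀ p : Fin 4 → k, ∑ i, h i * p i ≠ 0 → p ∉ Submodule.span k (Set.range v) := by
  have hlt : Submodule.span k (Set.range v) < ⊤ := by
    refine lt_top_iff_ne_top.mpr fun h => ?_
    have h1 := finrank_range_le_card (R := k) v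
    rw [Set.finrank, h, finrank_top, Module.finrank_fin_fun, Fintype.card_fin] at h1
    omega
  obtain ⟨f, hf, hf0⟩ := Submodule.exists_dual_map_eq_bot_of_lt_top hlt inferInstance
  have hsum : ∀ p : Fin 4 → k, f p = ∑ i, f (Pi.single i 1) * p i := fun p => by
    conv_lhs => rw [pi_eq_sum_univ' p]
    simp [map_sum, mul_comm]
  refine ⟨fun i => f (Pi.single i 1), fun h => hf ?_, fun p hp hmem => hp ?_⟩
  · refine LinearMap.ext fun p => ?_
    rw [hsum, LinearMap.zero_apply]
    exact Finset.sum_eq_zero fun i _ => by rw [show f (Pi.single i 1) = 0 from congrFun h i, zero_mul]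
  · rw [← hsum]
    exact Submodule.eq_bot_iff _ |>.mp hf0 _ ⟨p, hmem, rfl⟩

/-- Five points in general position, from avoidance of finitely many planes. -/
theorem exists_five (Sp : (Fin 4 → k) → Prop) (a : Fin 4 → k) (ha : a ≠ 0) (hSa : Sp a)
    (havoid : ∀ (n : ℕ) (h : Fin n → Fin 4 → k), (∀ j, h j ≠ 0) → ∃ p, Sp p ∧ ∀ j, ∑ i, h j i * p i ≠ 0) :
    ∃ p : Fin 5 → (Fin 4 → k), p 0 = a ∧ (∀ j, Sp (p j)) ∧
      ∀ j : Fin 5, LinearIndependent k (fun i : Fin 4 => p (j.succAbove i)) := by
  have step : ∀ (n : ℕ), n < 4 → ∀ v : Fin n → Fin 4 → k, LinearIndependent k v →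
      ∃ p, Sp p ∧ LinearIndependent k (Fin.snoc v p : Fin (n + 1) → Fin 4 → k) := by
    intro n hn v hv
    obtain ⟨h, hh, hh'⟩ := exists_functional hn v
    obtain ⟨p, hp, hp'⟩ := havoid 1 (fun _ => h) (fun _ => hh)
    exact ⟨p, hp, linearIndependent_finSnoc.mpr ⟨hv, hh' p (hp' 0)⟩⟩
  have h1 : LinearIndependent k ![a] := linearIndependent_unique_iff.mpr (by simpa using ha)
  obtain ⟨b, hb, h2⟩ := step 1 (by norm_num) _ h1
  obtain ⟨c, hc, h3⟩ := step 2 (by norm_num) _ h2
  obtain ⟨d, hd, h4⟩ := step 3 (by norm_num) _ h3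
  have cg : ∀ {n : ℕ} {v v' : Fin n → Fin 4 → k}, v = v' → LinearIndependent k v → LinearIndependent k v' :=
    fun e h => e ▸ h
  let w : Fin 4 → Fin 4 → k := ![a, b, c, d]
  have hw : LinearIndependent k w := by
    refine cg ?_ h4
    funext i; fin_cases i <;> rfl
  have htri : ∀ j : Fin 4, LinearIndependent k (fun i : Fin 3 => w (j.succAbove i)) := fun j =>
    hw.comp _ Fin.succAbove_right_injective
  choose h hh hh' using fun j : Fin 4 => exists_functional (n := 3) (by norm_num) (fun i : Fin 3 => w (j.succAbove i))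
  obtain ⟨e, he, he'⟩ := havoid 4 h hh
  refine ⟨![a, b, c, d, e], rfl, fun j => ?_, fun j => ?_⟩
  · fin_cases j <;> assumption
  · induction j using Fin.lastCases with
    | last =>
      refine cg ?_ hw
      funext i; fin_cases i <;> rfl
    | cast j =>
      have := linearIndependent_finSnoc.mpr ⟨htri j, hh' j e (he' j)⟩
      refine cg ?_ this
      funext i
      fin_cases j <;> fin_cases i <;> rfl

end Groth.Agent.Five86

end
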