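import Groth.Agent.Five86.Density
import Groth.Agent.Five86.General

/-!
# Five rational points in general position from a rational point which is not a T-point
-/

set_option autoImplicit false
set_option maxHeartbeats 1000000

noncomputable section

namespace Groth.Agent.Five86

open MvPolynomial TPt86

variable {k : Type*} [Field k] [CharZero k]

theorem Fv_map {K : Type*} [Field K] [Algebra k K] (F : MvPolynomial (Fin 4) k) (x : Fin 4 → K) :
    Fv (MvPolynomial.map (algebraMap k K) F) x = Fv F x := by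
  rw [Fv, Fv, aeval_map_algebraMap]

theorem gv_map {K : Type*} [Field K] [Algebra k K] (F : MvPolynomial (Fin 4) k) (x : Fin 4 → K) (i : Fin 4) :
    gv (MvPolynomial.map (algebraMap k K) F) x i = gv F x i := by
  rw [gv, gv, pderiv_map, aeval_map_algebraMap]

theorem Tv_map {K : Type*} [Field K] [Algebra k K] (F : MvPolynomial (Fin 4) k) (x v : Fin 4 → K) :
    Tv (MvPolynomial.map (algebraMap k K) F) x v = Tv F x v := by
  simp only [Tv, gv_map]

theorem ψπ_map {K : Type*} [Field K] [Algebra k K] (F : MvPolynomial (Fin 4) k) (m : Fin 4) (a x : Fin 4 → k) :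
    ψv (MvPolynomial.map (algebraMap k K) F) (fun i => algebraMap k K (a i))
        (πv (MvPolynomial.map (algebraMap k K) F) m (fun i => algebraMap k K (a i)) fun i => algebraMap k K (x i)) =
      fun i => algebraMap k K (ψv F a (πv F m a x) i) := by
  have h := map_ψπ (Algebra.ofId k K) F m a x
  simp only [ψv, πv, Tv_map, Fv_map, gv_map] at h ⊢
  exact h.symm

theorem not_isUnit_of_isHomogeneous {σ K : Type*} [Field K] {p : MvPolynomial σ K} {d : ℕ} (hp : p.IsHomogeneous d)
    (hd : d ≠ 0) : ¬ IsUnit p := fun h => by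
  have h1 := h.map (constantCoeff (R := K) (σ := σ))
  rw [constantCoeff_eq, hp.coeff_eq_zero (by simpa using hd.symm)] at h1
  exact not_isUnit_zero h1

theorem avoid_singular {F : MvPolynomial (Fin 4) k} (hF : F.IsHomogeneous 3)
    (hirr : Irreducible (MvPolynomial.map (algebraMap k (AlgebraicClosure k)) F))
    (hcone : ¬ ∃ v : Fin 4 → k, v ≠ 0 ∧ ∑ i : Fin 4, v i • pderiv i F = 0)
    {a : Fin 4 → k} (ha : a ≠ 0) (hFa : eval a F = 0) (hg : ∀ i, eval a (pderiv i F) = 0)
    (n : ℕ) (h : Fin n → Fin 4 → k) (hh : ∀ j, h j ≠ 0) :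
    ∃ p, eval p F = 0 ∧ ∀ j, ∑ i, h j i * p i ≠ 0 := by
  classical
  let T : MvPolynomial (Fin 4) k := ∑ i, a i • pderiv i F
  have hT : T ≠ 0 := fun h0 => hcone ⟨a, ha, h0⟩
  have hThom : T.IsHomogeneous 2 := IsHomogeneous.sum _ _ _ fun i _ => by
    rw [smul_eq_C_mul]
    exact IsHomogeneous.C_mul (by simpa using hF.pderiv (i := i)) _
  have hTv : ∀ v, Tv F v a = eval v T := fun v => by simp [Tv, gv, T, mul_comm, coe_aeval_eq_eval]
  let Q : Fin n → MvPolynomial (Fin 4) k := fun j =>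
    C (∑ i, h j i * a i) * F - T * ∑ i, C (h j i) * X i
  have hQ : ∀ j, Q j ≠ 0 := by
    intro j h0
    have hlin : (∑ i, C (h j i) * X i : MvPolynomial (Fin 4) k) ≠ 0 := fun hz => hh j (funext fun i => by
      have := congrArg (eval (Pi.single i 1 : Fin 4 → k)) hz
      simpa [Pi.single_apply] using this)
    by_cases hc : ∑ i, h j i * a i = 0
    · rw [show Q j = C (∑ i, h j i * a i) * F - T * ∑ i, C (h j i) * X i from rfl, hc, map_zero, zero_mul, zero_sub,
        neg_eq_zero] at h0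
      exact mul_ne_zero hT hlin h0
    · have hF' : F = T * (C (∑ i, h j i * a i)⁻¹ * ∑ i, C (h j i) * X i) := by
        calc F = C (∑ i, h j i * a i)⁻¹ * (C (∑ i, h j i * a i) * F) := by
              rw [← mul_assoc, ← map_mul, inv_mul_cancel₀ hc, map_one, one_mul]
          _ = _ := by rw [sub_eq_zero.mp h0]; ring
      have h1 : (C (∑ i, h j i * a i)⁻¹ * ∑ i, C (h j i) * X i : MvPolynomial (Fin 4) k).IsHomogeneous 1 :=
        IsHomogeneous.C_mul (IsHomogeneous.sum _ _ _ fun i _ => IsHomogeneous.C_mul (isHomogeneous_X k i) _) _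
      rw [hF', map_mul] at hirr
      rcases hirr.isUnit_or_isUnit rfl with hu | hu
      · exact not_isUnit_of_isHomogeneous (hThom.map _) two_ne_zero hu
      · exact not_isUnit_of_isHomogeneous (h1.map _) one_ne_zero hu
  obtain ⟨v, hv⟩ : ∃ v, eval v (∏ j, Q j) ≠ 0 := by
    by_contra! h0
    exact Finset.prod_ne_zero_iff.mpr (fun j _ => hQ j) (MvPolynomial.funext fun v => by rw [h0 v, map_zero])
  rw [map_prod, Finset.prod_ne_zero_iff] at hv
  refine ⟨ψv F a v, ?_, fun j => ?_⟩
  · exact (show Fv F (ψv F a v) = 0 from Fv_ψv hF hFa (by simp [Tv, gv, coe_aeval_eq_eval, hg]))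
  · refine ne_of_eq_of_ne ?_ (hv j (Finset.mem_univ j))
    simp only [Q, ψv, hTv, show Fv F v = eval v F from rfl, map_sub, map_mul, map_sum, eval_C, eval_X, Pi.add_apply, map_add,
      Pi.smul_apply, smul_eq_mul, Fin.sum_univ_four]
    ring

theorem avoid_smooth {F : MvPolynomial (Fin 4) k} (hF : F.IsHomogeneous 3) {a : Fin 4 → k} (ha : a ≠ 0)
    (hFa : eval a F = 0) {m : Fin 4} (hm : eval a (pderiv m F) ≠ 0)
    (hT : ¬ Split3 (MvPolynomial.map (algebraMap k (AlgebraicClosure k)) F)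
      fun i => algebraMap k (AlgebraicClosure k) (a i))
    (n : ℕ) (h : Fin n → Fin 4 → k) (hh : ∀ j, h j ≠ 0) :
    ∃ p, eval p F = 0 ∧ ∀ j, ∑ i, h j i * p i ≠ 0 := by
  classical
  let K := AlgebraicClosure k
  let ι := algebraMap k K
  let F' := MvPolynomial.map ι F
  let a' : Fin 4 → K := fun i => ι (a i)
  let h' : Fin n → Fin 4 → K := fun j i => ι (h j i)
  have hF' : F'.IsHomogeneous 3 := hF.map _
  have hev : ∀ (p : MvPolynomial (Fin 4) k) (x : Fin 4 → k),
      eval (fun i => ι (x i)) (MvPolynomial.map ι p) = ι (eval x p) := fun p x => by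
    rw [eval_map]
    exact (eval₂_comp ι x p).symm
  have hne : ∀ x : Fin 4 → k, x ≠ 0 → (fun i => ι (x i)) ≠ (0 : Fin 4 → K) := fun x hx h0 =>
    hx (funext fun i => ι.injective ((congrFun h0 i).trans (map_zero ι).symm))
  have hR : (Set.range ι).Infinite := Set.infinite_range_of_injective ι.injective
  have haF' : eval a' F' = 0 := by rw [hev, hFa, map_zero]
  have hm' : eval a' (pderiv m F') ≠ 0 := by rw [pderiv_map, hev]; simpa using hm
  obtain ⟨x, hxR, hbT, hbm, hba, hbh⟩ := exists_good (Set.range ι) hR hF' (hne a ha) haF' hm' hT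
    (ι := {j // ∃ v, Tv F' a' v = 0 ∧ ∑ i, h' j i * v i ≠ 0}) (fun j => h' j.1) (fun j => j.2)
  choose x₀ hx₀ using hxR
  obtain rfl : (fun i => ι (x₀ i)) = x := funext hx₀
  let b : Fin 4 → k := ψv F a (πv F m a x₀)
  have hb : ψv F' a' (πv F' m a' fun i => ι (x₀ i)) = fun i => ι (b i) := ψπ_map F m a x₀
  rw [hb] at hbT hbm hba hbh
  have hFb : eval b F = 0 := (show Fv F b = 0 from Fv_ψv hF hFa (Tv_πv F m a x₀))
  have hbF' : eval (fun i => ι (b i)) F' = 0 := by rw [hev, hFb, map_zero]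
  have hb0 : (fun i => ι (b i)) ≠ (0 : Fin 4 → K) := fun h0 => hba (by
    rw [h0, ← zero_smul K a', (expand_data hF' a' a' a' 0).2.2.2.1]; ring)
  have hbb : Tv F' (fun i => ι (b i)) (fun i => ι (b i)) = 0 := by
    rw [(expand_data hF' _ a' a' 1).2.2.2.2.1, show Fv F' (fun i => ι (b i)) = 0 from hbF', mul_zero]
  have hhb : ∀ j, ∃ v, Tv F' (fun i => ι (b i)) v = 0 ∧ ∑ i, h' j i * v i ≠ 0 := by
    intro j
    by_contra! hall
    by_cases hj : ∃ v, Tv F' a' v = 0 ∧ ∑ i, h' j i * v i ≠ 0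
    · exact hbh ⟨j, hj⟩ (hall _ hbb)
    · push Not at hj
      have haa : Tv F' a' a' = 0 := by
        rw [(expand_data hF' a' a' a' 1).2.2.2.2.1, show Fv F' a' = 0 from haF', mul_zero]
      have h1 : ∑ i, h' j i * a' i = 0 := hj _ haa
      have hall' : ∀ v : Fin 4 → K, ∑ i, h' j i * v i = 0 := fun v => by
        let c := Tv F' (fun i => ι (b i)) v / Tv F' (fun i => ι (b i)) a'
        have := hall (v + (-c) • a') (by rw [Tv_add_right, Tv_smul_right, neg_mul, div_mul_cancel₀ _ hba, add_neg_cancel])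
        simp only [Pi.add_apply, Pi.smul_apply, smul_eq_mul, mul_add, Finset.sum_add_distrib] at this
        simpa [mul_left_comm (h' j _), ← Finset.mul_sum, h1] using this
      refine hh j (funext fun i => ι.injective ?_)
      have := hall' (Pi.single i 1)
      simpa [h', Pi.single_apply] using this
  obtain ⟨y, hyR, -, -, -, hy⟩ := exists_good (Set.range ι) hR hF' hb0 hbF' hbm hbT h' hhb
  choose y₀ hy₀ using hyR
  obtain rfl : (fun i => ι (y₀ i)) = y := funext hy₀
  refine ⟨ψv F b (πv F m b y₀), (show Fv F _ = 0 from Fv_ψv hF hFb (Tv_πv F m b y₀)), fun j hj => hy j ?_⟩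
  rw [ψπ_map F m b y₀]
  show ∑ i, ι (h j i) * ι _ = 0
  simp only [← map_mul, ← map_sum, hj, map_zero]

end Groth.Agent.Five86

end

namespace Groth.Agent.Five86

open MvPolynomial TPt86

theorem exists_five_ratPoints {k : Type*} [Field k] [CharZero k] (F : MvPolynomial (Fin 4) k) (hF : F.IsHomogeneous 3)
    (hirr : Irreducible (MvPolynomial.map (algebraMap k (AlgebraicClosure k)) F))
    (hcone : ¬ ∃ v : Fin 4 → k, v ≠ 0 ∧ ∑ i : Fin 4, v i • pderiv i F = 0)
    (a : Fin 4 → k) (ha : a ≠ 0) (hFa : eval a F = 0) (ℓ : MvPolynomial (Fin 4) (AlgebraicClosure k))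
    (hℓ : ℓ = ∑ i : Fin 4, C (algebraMap k (AlgebraicClosure k) (eval a (pderiv i F))) * X i)
    (hT : ¬ ∃ L₁ L₂ L₃ : MvPolynomial (Fin 4) (AlgebraicClosure k), L₁.IsHomogeneous 1 ∧ L₂.IsHomogeneous 1 ∧
      L₃.IsHomogeneous 1 ∧ MvPolynomial.map (algebraMap k (AlgebraicClosure k)) F - L₁ * L₂ * L₃ ∈ Ideal.span {ℓ}) :
    ∃ p : Fin 5 → (Fin 4 → k), p 0 = a ∧ (∀ j : Fin 5, eval (p j) F = 0) ∧
      ∀ j : Fin 5, LinearIndependent k (fun i : Fin 4 => p (j.succAbove i)) := by
  refine exists_five (fun p => eval p F = 0) a ha hFa fun n h hh => ?_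
  by_cases hg : ∀ i, eval a (pderiv i F) = 0
  · exact avoid_singular hF hirr hcone ha hFa hg n h hh
  · push Not at hg
    obtain ⟨m, hm⟩ := hg
    refine avoid_smooth hF ha hFa hm (fun hs => hT ?_) n h hh
    have hℓ' : ℓ = ∑ i : Fin 4, C (eval (fun i => algebraMap k (AlgebraicClosure k) (a i))
        (pderiv i (MvPolynomial.map (algebraMap k (AlgebraicClosure k)) F))) * X i := by
      rw [hℓ]
      refine Finset.sum_congr rfl fun i _ => ?_
      rw [pderiv_map, eval_map]
      congr 2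
      exact (eval₂_comp (algebraMap k (AlgebraicClosure k)) a (pderiv i F))
    rw [hℓ']
    exact hs

end Groth.Agent.Five86
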