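import Groth.Agent.Five86.Cases
import Groth.Agent.Five86.GenPoint
import Groth.Agent.Five86.Rational

/-!
# A point which is not a T-point exists
-/

set_option autoImplicit false
set_option maxHeartbeats 1000000

noncomputable section

namespace Groth.Agent.Five86

open MvPolynomial TPt86

universe u

theorem Φv_map' {K : Type*} [Field K] [CharZero K] {Ω : Type*} [Field Ω] [Algebra K Ω] (F : MvPolynomial (Fin 4) K)
    (m : Fin 4) (E : Fin 3 → Fin 4 → Ω) (u₀ v₀ : Fin 3 → Ω) (b : Fin 4 → Ω) :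
    Φv (MvPolynomial.map (algebraMap K Ω) F) m E u₀ v₀ b = Φv F m E u₀ v₀ b := by
  have hG : Gv (MvPolynomial.map (algebraMap K Ω) F) m E b = Gv F m E b := funext fun u => by
    simp only [Gv, Wv, gv_map, Tv_map, Fv_map]
  simp only [Φv, hG, gv_map]

theorem ne_zero_of_grad {K : Type*} [Field K] {F : MvPolynomial (Fin 4) K} (hF : F.IsHomogeneous 3) {b : Fin 4 → K}
    {m : Fin 4} (h : eval b (pderiv m F) ≠ 0) : b ≠ 0 := by
  rintro rfl
  apply h
  rw [MvPolynomial.eval_zero, MvPolynomial.constantCoeff_eq]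
  exact hF.pderiv.coeff_eq_zero (by simp)

theorem exists_nonT {K : Type u} [Field K] [CharZero K] [IsAlgClosed K] {F : MvPolynomial (Fin 4) K}
    (hF : F.IsHomogeneous 3) (hirr : Irreducible F)
    (hcone : ¬ ∃ v : Fin 4 → K, v ≠ 0 ∧ ∑ i : Fin 4, v i • pderiv i F = 0) :
    ∃ (a : Fin 4 → K) (m : Fin 4) (Ev : Fin 3 → Fin 4 → K) (u₀ v₀ : Fin 3 → K),
      eval a F = 0 ∧ Φv F m Ev u₀ v₀ a ≠ 0 := by
  classical
  obtain ⟨ξ, hξ⟩ := exists_generic F hF hirr hcone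
  let F' := MvPolynomial.map (algebraMap K (Fun3bar K)) F
  obtain ⟨m, hm⟩ := hξ.smooth
  have hm' : eval ξ (pderiv m F') ≠ 0 := by
    show gv F' ξ m ≠ 0
    rwa [gv_map]
  have hon : eval ξ F' = 0 := by
    show Fv F' ξ = 0
    rw [Fv_map]; exact hξ.onS
  obtain ⟨Ev, u₀, v₀, hΦ⟩ := exists_obstruction (hF.map (algebraMap K (Fun3bar K))) (ne_zero_of_grad (hF.map _) hm') hon hm'
    hξ.not_split
  rw [Φv_map'] at hΦ
  let S : Set (Fun3bar K) := Set.range ξ ∪ (⋃ r, Set.range (Ev r)) ∪ Set.range u₀ ∪ Set.range v₀ ∪ {(Φv F m Ev u₀ v₀ ξ)⁻¹}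
  have hS : S.Finite := by
    exact ((((Set.finite_range _).union (Set.finite_iUnion fun _ => Set.finite_range _)).union
      (Set.finite_range _)).union (Set.finite_range _)).union (Set.finite_singleton _)
  let A := Algebra.adjoin K S
  have hA : Algebra.FiniteType K A := A.fg_iff_finiteType.mp (Subalgebra.fg_def.mpr ⟨S, hS, rfl⟩)
  have hsub : S ⊆ A := Algebra.subset_adjoin
  let ξA : Fin 4 → A := fun i => ⟨ξ i, hsub (Or.inl (Or.inl (Or.inl (Or.inl ⟨i, rfl⟩))))⟩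
  let EA : Fin 3 → Fin 4 → A := fun r i => ⟨Ev r i, hsub (Or.inl (Or.inl (Or.inl (Or.inr
    (Set.mem_iUnion.mpr ⟨r, i, rfl⟩)))))⟩
  let uA : Fin 3 → A := fun r => ⟨u₀ r, hsub (Or.inl (Or.inl (Or.inr ⟨r, rfl⟩)))⟩
  let vA : Fin 3 → A := fun r => ⟨v₀ r, hsub (Or.inl (Or.inr ⟨r, rfl⟩))⟩
  let iA : A := ⟨(Φv F m Ev u₀ v₀ ξ)⁻¹, hsub (Or.inr rfl)⟩
  have h0 : Fv F ξA = 0 := Subtype.ext (by
    have := map_Fv A.val F ξA
    exact this.trans hξ.onS)
  have h1 : Φv F m EA uA vA ξA * iA = 1 := Subtype.ext (by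
    have := map_Φv A.val F m EA uA vA ξA
    show (A.val (Φv F m EA uA vA ξA) : (Fun3bar K)) * (Φv F m Ev u₀ v₀ ξ)⁻¹ = 1
    rw [this]
    exact mul_inv_cancel₀ hΦ)
  obtain ⟨M, hM⟩ := Ideal.exists_maximal A
  letI : Field (A ⧸ M) := Ideal.Quotient.field M
  have : Algebra.FiniteType K (A ⧸ M) :=
    Algebra.FiniteType.of_surjective (Ideal.Quotient.mkₐ K M) (Ideal.Quotient.mkₐ_surjective K M)
  have hfin : Module.Finite K (A ⧸ M) := finite_of_finite_type_of_isJacobsonRing K (A ⧸ M)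
  let φ : A →ₐ[K] K := (IsAlgClosed.lift : (A ⧸ M) →ₐ[K] K).comp (Ideal.Quotient.mkₐ K M)
  refine ⟨φ ∘ ξA, m, fun r => φ ∘ EA r, φ ∘ uA, φ ∘ vA, ?_, fun hz => ?_⟩
  · show Fv F (φ ∘ ξA) = 0
    rw [← map_Fv, h0, map_zero]
  · have := congrArg φ h1
    rw [map_mul, map_Φv, hz, zero_mul, map_one] at this
    exact zero_ne_one this

end Groth.Agent.Five86

end
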