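import Mathlib

/-!
# Linear Pfaffian representations of cubics through five points in general position
-/

set_option autoImplicit false
set_option maxHeartbeats 2000000

noncomputable section

namespace Groth.Agent.Five86

open MvPolynomial

/-- The skew matrix of a pentagon with a border. -/
def skew6 {R : Type*} [CommRing R] (a b c d g l0 l1 l2 l3 l4 : R) : Matrix (Fin 6) (Fin 6) R :=
  !![0, a, 0, 0, g, l0; -a, 0, b, 0, 0, l1; 0, -b, 0, c, 0, l2; 0, 0, -c, 0, d, l3; -g, 0, 0, -d, 0, l4;
    -l0, -l1, -l2, -l3, -l4, 0]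

theorem skew6_transpose {R : Type*} [CommRing R] (a b c d g l0 l1 l2 l3 l4 : R) :
    (skew6 a b c d g l0 l1 l2 l3 l4).transpose = -skew6 a b c d g l0 l1 l2 l3 l4 := by
  ext i j
  fin_cases i <;> fin_cases j <;> simp [skew6]

theorem skew6_diag {R : Type*} [CommRing R] (a b c d g l0 l1 l2 l3 l4 : R) (i : Fin 6) :
    skew6 a b c d g l0 l1 l2 l3 l4 i i = 0 := by
  fin_cases i <;> simp [skew6]

theorem skew6_forall {R : Type*} [CommRing R] (P : R → Prop) (h0 : P 0) (hn : ∀ x, P x → P (-x))
    {a b c d g l0 l1 l2 l3 l4 : R} (ha : P a) (hb : P b) (hc : P c) (hd : P d) (hg : P g)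
    (k0 : P l0) (k1 : P l1) (k2 : P l2) (k3 : P l3) (k4 : P l4) (i j : Fin 6) :
    P (skew6 a b c d g l0 l1 l2 l3 l4 i j) := by
  fin_cases i <;> fin_cases j <;> simp [skew6, h0, hn, ha, hb, hc, hd, hg, k0, k1, k2, k3, k4]

theorem det_cycle {R : Type*} [CommRing R] (a b c d g l0 l1 l2 l3 l4 : R) :
    (skew6 a b c d g l0 l1 l2 l3 l4).det =
      (l0 * (b * d) - l1 * (g * c) + l2 * (a * d) - l3 * (g * b) + l4 * (a * c)) ^ 2 := by
  simp [skew6, Matrix.det_succ_row_zero, Fin.sum_univ_succ, Fin.succAbove]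
  ring

variable {k : Type*} [Field k]

/-- The five quadrics of the standard five points. -/
def q5 : Fin 5 → MvPolynomial (Fin 4) k :=
  ![(X 1 - X 2) * X 3, X 0 * (X 2 - X 3), (X 0 - X 1) * X 3, X 0 * (X 1 - X 2), (X 0 - X 1) * (X 2 - X 3)]

/-- Combinations of the five quadrics with linear coefficients. -/
def W5 : Submodule k (MvPolynomial (Fin 4) k) :=
  Submodule.span k (Set.range fun p : Fin 4 × Fin 5 => X p.1 * q5 p.2)

theorem mem_W5 {p : MvPolynomial (Fin 4) k} (hp : p ∈ W5 (k := k)) :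
    ∃ L : Fin 5 → MvPolynomial (Fin 4) k, (∀ n, (L n).IsHomogeneous 1) ∧ p = ∑ n, L n * q5 n := by
  classical
  induction hp using Submodule.span_induction with
  | mem x hx =>
    obtain ⟨⟨i, n⟩, rfl⟩ := hx
    refine ⟨fun r => if r = n then X i else 0, fun r => ?_, by simp⟩
    by_cases h : r = n
    · simp [h, isHomogeneous_X]
    · simp [h, isHomogeneous_zero]
  | zero => exact ⟨0, fun _ => isHomogeneous_zero _ _ _, by simp⟩
  | add x y _ _ hx hy =>
    obtain ⟨L, hL, rfl⟩ := hx
    obtain ⟨M, hM, rfl⟩ := hy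
    exact ⟨L + M, fun n => (hL n).add (hM n), by simp [add_mul, Finset.sum_add_distrib]⟩
  | smul c x _ hx =>
    obtain ⟨L, hL, rfl⟩ := hx
    refine ⟨fun n => C c * L n, fun n => (hL n).C_mul c, ?_⟩
    simp [smul_eq_C_mul, Finset.mul_sum, mul_assoc]

theorem pair_mem (r i j : Fin 4) (hij : i ≠ j) :
    (X r * (X i * X j - X 0 * X 1) : MvPolynomial (Fin 4) k) ∈ W5 := by
  have hq : ∀ n, X r * q5 n ∈ W5 (k := k) := fun n => Submodule.subset_span ⟨(r, n), rfl⟩
  have h3 := hq 3
  have h1 := hq 1
  have h2 := hq 2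
  have h0 := hq 0
  have h4 := hq 4
  simp only [q5, Matrix.cons_val] at h0 h1 h2 h3 h4
  have e02 : (X r * (X 0 * X 2 - X 0 * X 1) : MvPolynomial (Fin 4) k) ∈ W5 := by
    convert neg_mem h3 using 1; ring
  have e03 : (X r * (X 0 * X 3 - X 0 * X 1) : MvPolynomial (Fin 4) k) ∈ W5 := by
    convert sub_mem e02 h1 using 1; ring
  have e13 : (X r * (X 1 * X 3 - X 0 * X 1) : MvPolynomial (Fin 4) k) ∈ W5 := by
    convert sub_mem e03 h2 using 1; ring
  have e23 : (X r * (X 2 * X 3 - X 0 * X 1) : MvPolynomial (Fin 4) k) ∈ W5 := by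
    convert sub_mem e13 h0 using 1; ring
  have e12 : (X r * (X 1 * X 2 - X 0 * X 1) : MvPolynomial (Fin 4) k) ∈ W5 := by
    convert sub_mem e13 (sub_mem h4 h1) using 1; ring
  have e01 : (X r * (X 0 * X 1 - X 0 * X 1) : MvPolynomial (Fin 4) k) ∈ W5 := by
    rw [sub_self, mul_zero]; exact zero_mem _
  have sw : ∀ {i j : Fin 4}, (X r * (X i * X j - X 0 * X 1) : MvPolynomial (Fin 4) k) ∈ W5 →
      (X r * (X j * X i - X 0 * X 1) : MvPolynomial (Fin 4) k) ∈ W5 := fun {i j} h => by
    rwa [mul_comm (X j) (X i)]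
  match i, j with
  | 0, 0 => exact absurd rfl hij
  | 1, 1 => exact absurd rfl hij
  | 2, 2 => exact absurd rfl hij
  | 3, 3 => exact absurd rfl hij
  | 0, 1 => exact e01
  | 1, 0 => exact sw e01
  | 0, 2 => exact e02
  | 2, 0 => exact sw e02
  | 0, 3 => exact e03
  | 3, 0 => exact sw e03
  | 1, 2 => exact e12
  | 2, 1 => exact sw e12
  | 1, 3 => exact e13
  | 3, 1 => exact sw e13
  | 2, 3 => exact e23
  | 3, 2 => exact sw e23

theorem mixed_mem (i j l : Fin 4) (h : ¬ (i = j ∧ j = l)) :
    (X i * X j * X l - X 0 * (X 0 * X 1) : MvPolynomial (Fin 4) k) ∈ W5 := by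
  have move : ∀ r : Fin 4, (X r * (X 0 * X 1) - X 0 * (X 0 * X 1) : MvPolynomial (Fin 4) k) ∈ W5 := by
    intro r
    obtain ⟨s, hs0, hsr⟩ : ∃ s : Fin 4, 0 ≠ s ∧ r ≠ s := by fin_cases r <;> decide
    convert sub_mem (pair_mem (k := k) 0 r s hsr) (pair_mem (k := k) r 0 s hs0) using 1
    ring
  by_cases hij : i = j
  · have hjl : j ≠ l := fun hh => h ⟨hij, hh⟩
    convert add_mem (pair_mem (k := k) i j l hjl) (move i) using 1
    ring
  · convert add_mem (pair_mem (k := k) l i j hij) (move l) using 1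
    ring

theorem exists_coeffs' {F : MvPolynomial (Fin 4) k} (hF : F.IsHomogeneous 3) :
    ∃ s : Multiset (k × Fin 4 × Fin 4 × Fin 4),
      F = (s.map fun t => C t.1 * X t.2.1 * X t.2.2.1 * X t.2.2.2).sum := by
  classical
  have key : ∀ d ∈ F.support, ∃ i j l, monomial d (coeff d F) = C (coeff d F) * X i * X j * X l := by
    intro d hd
    have h3 : d.toMultiset.card = 3 := by
      rw [Finsupp.card_toMultiset]
      have := hF (mem_support_iff.mp hd)
      simpa [Finsupp.weight_apply, Finsupp.sum] using this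
    obtain ⟨i, j, l, hijl⟩ := Multiset.card_eq_three.mp h3
    have hd' : d = Finsupp.single i 1 + Finsupp.single j 1 + Finsupp.single l 1 := by
      apply Finsupp.orderIsoMultiset.injective
      simp only [Finsupp.coe_orderIsoMultiset, hijl, map_add, Finsupp.toMultiset_single, one_nsmul]
      rfl
    refine ⟨i, j, l, ?_⟩
    generalize coeff d F = c
    rw [hd', X, X, X, C_mul_monomial, monomial_mul, monomial_mul]
    simp
  choose! i j l h using key
  refine ⟨F.support.val.map fun d => (coeff d F, i d, j d, l d), ?_⟩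
  rw [Multiset.map_map]
  conv_lhs => rw [F.as_sum, Finset.sum_congr rfl h]
  rfl

theorem mem_W5_of_vanish {F : MvPolynomial (Fin 4) k} (hF : F.IsHomogeneous 3)
    (he : ∀ r : Fin 4, eval (Pi.single r 1) F = 0) (h1 : eval (fun _ => (1 : k)) F = 0) : F ∈ W5 (k := k) := by
  classical
  obtain ⟨s, rfl⟩ := exists_coeffs' hF
  clear hF
  have key : ∀ s : Multiset (k × Fin 4 × Fin 4 × Fin 4),
      (s.map fun t => C t.1 * X t.2.1 * X t.2.2.1 * X t.2.2.2).sum -
        eval (fun _ => (1 : k)) (s.map fun t => C t.1 * X t.2.1 * X t.2.2.1 * X t.2.2.2).sum • (X 0 * (X 0 * X 1)) -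
        ∑ r : Fin 4, eval (Pi.single r 1) (s.map fun t => C t.1 * X t.2.1 * X t.2.2.1 * X t.2.2.2).sum •
          (X r ^ 3 - X 0 * (X 0 * X 1) : MvPolynomial (Fin 4) k) ∈ W5 := by
    intro s
    induction s using Multiset.induction with
    | empty => simp
    | cons t s ih =>
      obtain ⟨c, i, j, l⟩ := t
      simp only [Multiset.map_cons, Multiset.sum_cons, map_add, add_smul, Finset.sum_add_distrib]
      have ht : (C c * X i * X j * X l - eval (fun _ => (1 : k)) (C c * X i * X j * X l) • (X 0 * (X 0 * X 1)) -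
          ∑ r : Fin 4, eval (Pi.single r 1) (C c * X i * X j * X l) •
            (X r ^ 3 - X 0 * (X 0 * X 1)) : MvPolynomial (Fin 4) k) ∈ W5 := by
        by_cases h : i = j ∧ j = l
        · obtain ⟨rfl, rfl⟩ := h
          convert zero_mem (W5 (k := k)) using 1
          rw [Finset.sum_eq_single i]
          · simp [smul_eq_C_mul]; ring
          · intro r _ hr; simp [Pi.single_apply, Ne.symm hr]
          · simp
        · convert Submodule.smul_mem _ c (mixed_mem (k := k) i j l h) using 1
          rw [Finset.sum_eq_zero]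
          · simp [smul_eq_C_mul]; ring
          · intro r _
            simp only [map_mul, eval_C, eval_X, Pi.single_apply]
            by_cases hi : i = r <;> by_cases hj : j = r <;> by_cases hl : l = r <;>
              simp [hi, hj, hl] <;> exact absurd ⟨hi.trans hj.symm, hj.trans hl.symm⟩ h
      convert add_mem ht ih using 1
      abel
  have := key s
  rw [h1, zero_smul, sub_zero, Finset.sum_eq_zero (fun r _ => by rw [he r, zero_smul]), sub_zero] at this
  exact this

/-- A linear Pfaffian representation from five points in general position. -/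
theorem exists_pfaffianRep (F : MvPolynomial (Fin 4) k) (hF : F.IsHomogeneous 3) (p : Fin 5 → (Fin 4 → k))
    (hp : ∀ j, eval (p j) F = 0) (hli : ∀ j : Fin 5, LinearIndependent k (fun i : Fin 4 => p (j.succAbove i))) :
    ∃ M : Matrix (Fin 6) (Fin 6) (MvPolynomial (Fin 4) k), (∀ i j, (M i j).IsHomogeneous 1) ∧ M.transpose = -M ∧
      (∀ i, M i i = 0) ∧ ∃ c : k, c ≠ 0 ∧ M.det = C c * F ^ 2 := by
  classical
  let q : Fin 4 → Fin 4 → k := fun i => p i.castSucc
  have hq : LinearIndependent k q := by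
    have := hli (Fin.last 4)
    simpa only [q, Fin.succAbove_last] using this
  let B := basisOfLinearIndependentOfCardEqFinrank hq (by simp)
  let cc : Fin 4 → k := fun i => B.repr (p (Fin.last 4)) i
  have hsum : p (Fin.last 4) = ∑ i, cc i • q i := by
    conv_lhs => rw [← B.sum_repr (p (Fin.last 4))]
    simp [B, cc]
  have hcc : ∀ i, cc i ≠ 0 := by
    intro i hi
    have hl := Fintype.linearIndependent_iff.mp (hli i.castSucc)
    have := hl (fun r => if h : r = Fin.last 3 then -1 else cc (i.succAbove (r.castPred h))) (by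
      rw [Fin.sum_univ_castSucc]
      have h1 : ∀ r : Fin 3, (i.castSucc).succAbove r.castSucc = (i.succAbove r).castSucc := fun r => by
        simp [Fin.succAbove, Fin.lt_def]; split <;> rfl
      have h2 : (i.castSucc).succAbove (Fin.last 3) = Fin.last 4 := by
        simp [Fin.succAbove, Fin.lt_def]; omega
      simp only [h1, h2, dite_true, Fin.castSucc_ne_last, dite_false, Fin.castPred_castSucc, hsum]
      rw [Fin.sum_univ_succAbove _ i, hi]
      simp [q]) (Fin.last 3)
    simp at this
  have hw : LinearIndependent k fun i => cc i • q i :=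
    hq.units_smul fun i => Units.mk0 _ (hcc i)
  let T : Matrix (Fin 4) (Fin 4) k := Matrix.of fun i j => cc j * q j i
  have hT : IsUnit T := by
    rw [← Matrix.linearIndependent_cols_iff_isUnit]
    exact hw
  obtain ⟨U, hU⟩ := hT
  let S : Matrix (Fin 4) (Fin 4) k := (U⁻¹).val
  have hTS : T * S = 1 := by rw [← hU]; exact U.mul_inv
  let sub : Matrix (Fin 4) (Fin 4) k → (MvPolynomial (Fin 4) k →ₐ[k] MvPolynomial (Fin 4) k) := fun A =>
    aeval fun i => ∑ j, C (A i j) * X j
  have hhom : ∀ (A : Matrix (Fin 4) (Fin 4) k) (i : Fin 4), (∑ j, C (A i j) * X j : MvPolynomial (Fin 4) k).IsHomogeneous 1 := fun A i =>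
    IsHomogeneous.sum _ _ _ fun j _ => IsHomogeneous.C_mul (isHomogeneous_X k j) _
  have hev : ∀ y, eval y (sub T F) = eval (fun i => ∑ j, T i j * y j) F := by
    intro y
    generalize F = G
    induction G using MvPolynomial.induction_on <;> simp_all [sub]
  have hF' : (sub T F).IsHomogeneous 3 := by
    have h := hF.aeval (fun i => ∑ j, C (T i j) * X j) (hhom T)
    rwa [one_mul] at h
  have hpe : ∀ (r : Fin 4), eval (Pi.single r 1) (sub T F) = 0 := fun r => by
    rw [hev]
    have : (fun i => ∑ j, T i j * (Pi.single r 1 : Fin 4 → k) j) = cc r • q r := by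
      funext i; simp [T, Pi.single_apply]
    rw [this]
    have : eval (cc r • q r) F = cc r ^ 3 * eval (q r) F := by
      have h3 := hF
      obtain ⟨s, rfl⟩ := exists_coeffs' h3
      clear hF h3 hev hF' hp this
      induction s using Multiset.induction with
      | empty => simp
      | cons t s ih => simp_all; ring
    rw [this, hp, mul_zero]
  have hp1 : eval (fun _ => (1 : k)) (sub T F) = 0 := by
    rw [hev]
    have : (fun i => ∑ j, T i j * (1 : k)) = p (Fin.last 4) := by
      rw [hsum]; funext i; simp [T, Finset.sum_apply]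
    rw [this, hp]
  obtain ⟨L, hL, hdec⟩ := mem_W5 (mem_W5_of_vanish hF' hpe hp1)
  have hsub : ∀ p : MvPolynomial (Fin 4) k, p.IsHomogeneous 1 → (sub S p).IsHomogeneous 1 := fun p hp => by
    have h := hp.aeval (fun i => ∑ j, C (S i j) * X j) (hhom S)
    rwa [one_mul] at h
  have hX := fun r : Fin 4 => isHomogeneous_X k r
  refine ⟨skew6 (sub S (X 0 - X 1)) (sub S (X 1 - X 2)) (sub S (X 2 - X 3)) (sub S (X 3)) (sub S (X 0))
    (sub S (L 0)) (sub S (-L 1)) (sub S (L 2)) (sub S (-L 3)) (sub S (L 4)), fun i j => ?_, skew6_transpose .., fun i => skew6_diag .., 1, one_ne_zero, ?_⟩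
  · exact skew6_forall (fun p : MvPolynomial (Fin 4) k => p.IsHomogeneous 1) (isHomogeneous_zero _ _ _) (fun _ h => h.neg)
      (hsub _ ((hX 0).sub (hX 1))) (hsub _ ((hX 1).sub (hX 2))) (hsub _ ((hX 2).sub (hX 3))) (hsub _ (hX 3))
      (hsub _ (hX 0)) (hsub _ (hL 0)) (hsub _ (hL 1).neg) (hsub _ (hL 2)) (hsub _ (hL 3).neg) (hsub _ (hL 4)) i j
  · rw [det_cycle, map_one, one_mul]
    simp only [← map_mul, ← map_add, ← map_sub]
    congr 1
    have hd : sub T F = L 0 * q5 0 + L 1 * q5 1 + L 2 * q5 2 + L 3 * q5 3 + L 4 * q5 4 := by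
      rw [hdec, Fin.sum_univ_five]
    have hid : sub S (sub T F) = F := by
      show ((sub S).comp (sub T)) F = F
      have : (sub S).comp (sub T) = AlgHom.id k _ := by
        refine algHom_ext fun i => ?_
        have h1 : ∀ l, ∑ j, T i j * S j l = (1 : Matrix (Fin 4) (Fin 4) k) i l := fun l => by
          rw [← hTS]; rfl
        calc ((sub S).comp (sub T)) (X i) = ∑ j, C (T i j) * ∑ l, C (S j l) * X l := by simp [sub]
          _ = ∑ l, C (∑ j, T i j * S j l) * X l := by
            simp only [Finset.mul_sum, map_sum, map_mul, Finset.sum_mul, mul_assoc]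
            exact Finset.sum_comm
          _ = X i := by simp [h1, Matrix.one_apply, apply_ite (C : k → MvPolynomial (Fin 4) k)]
      rw [this]; rfl
    conv_rhs => rw [← hid, hd]
    congr 1
    simp only [q5, Matrix.cons_val]
    ring

end Groth.Agent.Five86

end
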