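import Groth.Agent.Five86.NonT
import Groth.Agent.Five86.Pfaff

/-!
# Pfaffian representations over cubic extensions
-/

set_option autoImplicit false
set_option maxHeartbeats 1000000

noncomputable section

namespace Groth.Agent.Five86

open TPt86

universe u v

theorem cone_descends {k E : Type*} [Field k] [Field E] [Algebra k E] (F : MvPolynomial (Fin 4) k)
    (hcone : ¬ ∃ v : Fin 4 → k, v ≠ 0 ∧ ∑ i : Fin 4, v i • MvPolynomial.pderiv i F = 0) :
    ¬ ∃ v : Fin 4 → E, v ≠ 0 ∧ ∑ i : Fin 4, v i • MvPolynomial.pderiv i (MvPolynomial.map (algebraMap k E) F) = 0 := by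
  rintro ⟨v, hv, h0⟩
  obtain ⟨j, hj⟩ : ∃ j, v j ≠ 0 := by by_contra! hall; exact hv (funext hall)
  obtain ⟨f, hf⟩ : ∃ f : E →ₗ[k] k, f (v j) ≠ 0 := by
    by_contra! hall
    exact hj ((Module.forall_dual_apply_eq_zero_iff k (v j)).mp hall)
  refine hcone ⟨fun i => f (v i), fun h => hf (congrFun h j), ?_⟩
  ext d
  have h1 := congrArg (fun p => f (MvPolynomial.coeff d p)) h0
  simp only [MvPolynomial.coeff_sum, MvPolynomial.coeff_smul, MvPolynomial.pderiv_map, MvPolynomial.coeff_map,
    smul_eq_mul, map_sum, MvPolynomial.coeff_zero, map_zero] at h1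
  simp only [MvPolynomial.coeff_sum, MvPolynomial.coeff_smul, MvPolynomial.coeff_zero, smul_eq_mul]
  rw [← h1]
  refine Finset.sum_congr rfl fun i _ => ?_
  rw [mul_comm (v i), ← Algebra.smul_def, map_smul, smul_eq_mul, mul_comm]

theorem irreducible_descends {k K : Type*} [Field k] [Field K] (f : k →+* K) {p : MvPolynomial (Fin 4) k}
    (h : Irreducible (MvPolynomial.map f p)) : Irreducible p := by
  have hunit : ∀ q : MvPolynomial (Fin 4) k, IsUnit (MvPolynomial.map f q) → IsUnit q := fun q hq => by
    obtain ⟨r, hr, hq'⟩ := (MvPolynomial.isUnit_iff_eq_C_of_isReduced (σ := Fin 4) (R := K)).mp hq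
    have h0 : f (MvPolynomial.coeff 0 q) = r := by rw [← MvPolynomial.coeff_map, hq', MvPolynomial.coeff_C, if_pos rfl]
    have hqC : q = MvPolynomial.C (MvPolynomial.coeff 0 q) := MvPolynomial.map_injective f f.injective (by
      rw [MvPolynomial.map_C, h0, hq'])
    rw [hqC]
    refine (isUnit_iff_ne_zero.mpr fun h1 => ?_).map MvPolynomial.C
    rw [← h0, h1, map_zero] at hr
    exact not_isUnit_zero hr
  refine ⟨fun hu => h.not_isUnit (hu.map (MvPolynomial.map f)), fun a b hab => ?_⟩
  rcases h.isUnit_or_isUnit (by rw [hab, map_mul]) with h1 | h1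
  · exact Or.inl (hunit a h1)
  · exact Or.inr (hunit b h1)

variable {k : Type u} [Field k]

/-- Evaluation on the pencil. -/
theorem aeval_pencil {E : Type*} [Field E] [Algebra k E] (m : Fin 4) (q : Fin 4 → k) (t : Fin 3 → k) (s : E)
    (P : MvPolynomial (Fin 4) k) :
    MvPolynomial.aeval (fun i => algebraMap k E (MvPolynomial.eval t (pp m i)) + s * algebraMap k E (q i)) P =
      Polynomial.aeval s ((pencil m q P).map (MvPolynomial.eval t)) := by
  induction P using MvPolynomial.induction_on with
  | C a => simp [pencil]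
  | add p r hp hr => simp [hp, hr]
  | mul_X p i hp =>
    rw [map_mul, map_mul, Polynomial.map_mul, map_mul, hp]
    congr 1
    simp only [pencil, MvPolynomial.aeval_X, Polynomial.map_add, Polynomial.map_mul, Polynomial.map_C, Polynomial.map_X,
      map_add, map_mul, Polynomial.aeval_C, Polynomial.aeval_X, MvPolynomial.eval_C]
    ring

variable [CharZero k]

/-- A cubic over `k` all of whose roots give points which are not T-points. -/
theorem exists_select (F : MvPolynomial (Fin 4) k) (hF : F.IsHomogeneous 3)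
    (hirr : Irreducible (MvPolynomial.map (algebraMap k (AlgebraicClosure k)) F))
    (hcone : ¬ ∃ v : Fin 4 → k, v ≠ 0 ∧ ∑ i : Fin 4, v i • MvPolynomial.pderiv i F = 0) :
    ∃ (p q : Fin 4 → k) (f : Polynomial k) (c : k), f.Monic ∧ f.natDegree = 3 ∧
      (∀ (E : Type v) [Field E] [Algebra k E] (s : E), MvPolynomial.aeval
        (fun i => algebraMap k E (p i) + s * algebraMap k E (q i)) F = algebraMap k E c * Polynomial.aeval s f) ∧
      ∀ s : AlgebraicClosure k, Polynomial.aeval s f = 0 →
        (fun i => algebraMap k (AlgebraicClosure k) (p i) + s * algebraMap k (AlgebraicClosure k) (q i)) ≠ 0 ∧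
        ¬ Split3 (MvPolynomial.map (algebraMap k (AlgebraicClosure k)) F)
          (fun i => algebraMap k (AlgebraicClosure k) (p i) + s * algebraMap k (AlgebraicClosure k) (q i)) := by
  classical
  let K := AlgebraicClosure k
  let ι := algebraMap k K
  let F' := MvPolynomial.map ι F
  obtain ⟨q, hFq⟩ : ∃ q, MvPolynomial.eval q F ≠ 0 := by
    by_contra! hall
    refine hirr.ne_zero ?_
    rw [show F = 0 from MvPolynomial.funext fun q => by rw [hall q, map_zero], map_zero]
  obtain ⟨m, hq⟩ : ∃ m, q m ≠ 0 := by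
    by_contra! hall
    apply hFq
    rw [show q = (0 : Fin 4 → k) from funext hall, MvPolynomial.eval_zero, MvPolynomial.constantCoeff_eq]
    exact hF.coeff_eq_zero (by simp)
  have hF' : F'.IsHomogeneous 3 := hF.map _
  let q' : Fin 4 → K := fun i => ι (q i)
  have hq' : q' m ≠ 0 := (map_ne_zero _).mpr hq
  have hFq' : MvPolynomial.eval q' F' ≠ 0 := by
    rw [MvPolynomial.eval_map, show q' = ι ∘ q from rfl, ← MvPolynomial.eval₂_comp]
    exact (map_ne_zero _).mpr hFq
  obtain ⟨a, m', Ev, u₀, v₀, haF, hΦ⟩ := exists_nonT hF' hirr (cone_descends F hcone)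
  let P : MvPolynomial (Fin 4) K := Φv F' m' (fun r i => MvPolynomial.C (Ev r i)) (fun r => MvPolynomial.C (u₀ r))
    (fun r => MvPolynomial.C (v₀ r)) MvPolynomial.X
  have hP : ∀ x, MvPolynomial.eval x P = Φv F' m' Ev u₀ v₀ x := fun x => by
    rw [show MvPolynomial.eval x P = MvPolynomial.aeval x P from
      (RingHom.congr_fun (MvPolynomial.coe_aeval_eq_eval x) _).symm, map_Φv]
    congr 1 <;> funext r <;> (try funext i) <;> simp
  -- coprimality
  let L := FractionRing (MvPolynomial (Fin 3) K)
  let R := MvPolynomial (Fin 3) K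
  let g := (lineCubic F' m q').map (algebraMap R L)
  have hg : Irreducible g := lineCubic_irreducible_frac hF' hirr hq' hFq'
  have hcop : IsCoprime g ((pencil m q' P).map (algebraMap R L)) := by
    refine hg.coprime_iff_not_dvd.mpr fun hd => hΦ ?_
    have h2 : lineCubic F' m q' ∣ pencil m q' P :=
      (Polynomial.map_dvd_map _ (IsFractionRing.injective _ _) (lineCubic_monic F' m q').1).mp hd
    have h3 : pencil m q' F' ∣ pencil m q' P := by
      rw [pencil_eq hF' m hFq']
      exact (Polynomial.isUnit_C.mpr ((isUnit_iff_ne_zero.mpr hFq').map MvPolynomial.C)).mul_left_dvd.mpr h2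
    obtain ⟨c, hc⟩ := (map_dvd_iff (pencilEquiv m q' hq')).mp h3
    rw [← hP, hc, map_mul, haF, zero_mul]
  obtain ⟨A, B, hAB⟩ := hcop
  obtain ⟨b₁, hb₁, hA⟩ := IsLocalization.integerNormalization_spec (nonZeroDivisors R) A
  obtain ⟨b₂, hb₂, hB⟩ := IsLocalization.integerNormalization_spec (nonZeroDivisors R) B
  set A₀ := IsLocalization.integerNormalization (nonZeroDivisors R) A
  set B₀ := IsLocalization.integerNormalization (nonZeroDivisors R) B
  have hbez : Polynomial.C b₂ * A₀ * lineCubic F' m q' + Polynomial.C b₁ * B₀ * pencil m q' P =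
      Polynomial.C (b₁ * b₂) := by
    apply Polynomial.map_injective (algebraMap R L) (IsFractionRing.injective R L)
    simp only [Polynomial.map_add, Polynomial.map_mul, Polynomial.map_C, hA, hB, Algebra.smul_def,
      IsScalarTower.algebraMap_apply R L (Polynomial L), Polynomial.algebraMap_eq, map_mul]
    linear_combination (Polynomial.C (algebraMap R L b₁) * Polynomial.C (algebraMap R L b₂)) * hAB
  obtain ⟨t, htR, ht⟩ : ∃ t : Fin 3 → K, (∀ i, t i ∈ Set.range ι) ∧ MvPolynomial.eval t (b₁ * b₂) ≠ 0 := by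
    by_contra! h0
    exact mul_ne_zero (nonZeroDivisors.ne_zero hb₁) (nonZeroDivisors.ne_zero hb₂)
      (MvPolynomial.funext_set (fun _ => Set.range ι) (fun _ => Set.infinite_range_of_injective ι.injective)
        fun x hx => by rw [h0 x (fun i => hx i trivial), map_zero])
  choose t₀ ht₀ using htR
  obtain rfl : (fun i => ι (t₀ i)) = t := funext ht₀
  let f := (lineCubic F m q).map (MvPolynomial.eval t₀)
  let p : Fin 4 → k := fun i => MvPolynomial.eval t₀ (pp m i)
  have hp : ∀ i, ι (p i) = MvPolynomial.eval (fun r => ι (t₀ r)) (pp (K := K) m i) := fun i => by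
    induction i using Fin.succAboveCases m with
    | x => simp [p, pp]
    | p r => simp [p, pp]
  refine ⟨p, q, f, MvPolynomial.eval q F, (lineCubic_monic F m q).1.map _, ?_, fun E _ _ s => ?_, fun s hs => ?_⟩
  · rw [(lineCubic_monic F m q).1.natDegree_map, (lineCubic_monic F m q).2]
  · rw [aeval_pencil m q t₀ s F, pencil_eq hF m hFq, Polynomial.map_mul, map_mul]
    simp [f]
  · have hz : Polynomial.aeval s ((pencil m q' F').map (MvPolynomial.eval fun r => ι (t₀ r))) = 0 := by
      rw [← aeval_pencil (E := K) m q' _ s F']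
      simp only [← hp, Algebra.algebraMap_self, RingHom.id_apply, q', F', MvPolynomial.aeval_map_algebraMap, ι]
      rw [aeval_pencil m q t₀ s F, pencil_eq hF m hFq, Polynomial.map_mul, map_mul, hs, mul_zero]
    have hg0 : Polynomial.aeval s ((lineCubic F' m q').map (MvPolynomial.eval fun r => ι (t₀ r))) = 0 := by
      rw [pencil_eq hF' m hFq', Polynomial.map_mul, map_mul] at hz
      refine (mul_eq_zero.mp hz).resolve_left ?_
      simpa using hFq'
    have hΦs : Φv F' m' Ev u₀ v₀ (fun i => ι (p i) + s * ι (q i)) ≠ 0 := by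
      intro h0
      have hPs : Polynomial.aeval s ((pencil m q' P).map (MvPolynomial.eval fun r => ι (t₀ r))) = 0 := by
        rw [← aeval_pencil (E := K) m q' _ s P]
        simp only [← hp, Algebra.algebraMap_self, RingHom.id_apply]
        rw [← h0, ← hP]
        rfl
      have h1 := congrArg (fun r => Polynomial.aeval s (Polynomial.map (MvPolynomial.eval fun r => ι (t₀ r)) r)) hbez
      simp only [Polynomial.map_add, Polynomial.map_mul, map_add, map_mul, hg0, hPs, mul_zero, add_zero] at h1
      apply ht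
      simpa using h1.symm
    refine ⟨fun h0 => ?_, fun hsp => hΦs (Φv_eq_zero hsp m' Ev u₀ v₀)⟩
    have hgm : gv F' (fun i => ι (p i) + s * ι (q i)) m' ≠ 0 := fun hg => hΦs (by rw [Φv, hg, zero_mul])
    exact ne_zero_of_grad hF' hgm h0

theorem exists_pfaffian_over_root {E : Type v} [Field E] [Algebra k E] [Algebra.IsAlgebraic k E]
    (F : MvPolynomial (Fin 4) k) (hF : F.IsHomogeneous 3)
    (hirr : Irreducible (MvPolynomial.map (algebraMap k (AlgebraicClosure k)) F))
    (hcone : ¬ ∃ v : Fin 4 → k, v ≠ 0 ∧ ∑ i : Fin 4, v i • MvPolynomial.pderiv i F = 0)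
    (p q : Fin 4 → k) (f : Polynomial k) (c : k)
    (hval : ∀ (E : Type v) [Field E] [Algebra k E] (s : E), MvPolynomial.aeval
      (fun i => algebraMap k E (p i) + s * algebraMap k E (q i)) F = algebraMap k E c * Polynomial.aeval s f)
    (hgood : ∀ s : AlgebraicClosure k, Polynomial.aeval s f = 0 →
      (fun i => algebraMap k (AlgebraicClosure k) (p i) + s * algebraMap k (AlgebraicClosure k) (q i)) ≠ 0 ∧
      ¬ Split3 (MvPolynomial.map (algebraMap k (AlgebraicClosure k)) F)
        (fun i => algebraMap k (AlgebraicClosure k) (p i) + s * algebraMap k (AlgebraicClosure k) (q i)))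
    (s : E) (hs : Polynomial.aeval s f = 0) :
    ∃ M : Matrix (Fin 6) (Fin 6) (MvPolynomial (Fin 4) E), (∀ i j, (M i j).IsHomogeneous 1) ∧ M.transpose = -M ∧
      (∀ i, M i i = 0) ∧ ∃ c : E, c ≠ 0 ∧ M.det = MvPolynomial.C c * (MvPolynomial.map (algebraMap k E) F) ^ 2 := by
  classical
  have : CharZero E := charZero_of_injective_algebraMap (algebraMap k E).injective
  have : Algebra.IsAlgebraic k (AlgebraicClosure E) := Algebra.IsAlgebraic.trans k E (AlgebraicClosure E)
  let ψ : AlgebraicClosure E →ₐ[k] AlgebraicClosure k := IsAlgClosed.lift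
  let σ : E →ₐ[k] AlgebraicClosure k := ψ.comp (IsScalarTower.toAlgHom k E (AlgebraicClosure E))
  let a : Fin 4 → E := fun i => algebraMap k E (p i) + s * algebraMap k E (q i)
  obtain ⟨hb0, hbT⟩ := hgood (σ s) (by rw [Polynomial.aeval_algHom_apply, hs, map_zero])
  have hσa : ∀ i, σ (a i) = algebraMap k _ (p i) + σ s * algebraMap k _ (q i) := fun i => by simp [a]
  have hFa : MvPolynomial.eval a (MvPolynomial.map (algebraMap k E) F) = 0 := by
    rw [MvPolynomial.eval_map, ← MvPolynomial.aeval_def, hval E s, hs, mul_zero]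
  have ha : a ≠ 0 := fun h0 => hb0 (funext fun i => by
    rw [← hσa, h0, Pi.zero_apply, map_zero, Pi.zero_apply])
  have hmap : ∀ (i : Fin 4) (G : MvPolynomial (Fin 4) k),
      σ (MvPolynomial.eval a (MvPolynomial.map (algebraMap k E) G)) =
        MvPolynomial.eval (fun i => algebraMap k _ (p i) + σ s * algebraMap k _ (q i))
          (MvPolynomial.map (algebraMap k (AlgebraicClosure k)) G) := fun _ G => by
    rw [MvPolynomial.eval_map, MvPolynomial.eval_map, ← MvPolynomial.aeval_def, ← MvPolynomial.aeval_def,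
      MvPolynomial.comp_aeval_apply]
    exact congrArg (fun x => MvPolynomial.aeval x G) (funext hσa)
  have hcomp : (ψ : AlgebraicClosure E →+* AlgebraicClosure k).comp
      ((algebraMap E (AlgebraicClosure E)).comp (algebraMap k E)) = algebraMap k (AlgebraicClosure k) :=
    RingHom.ext fun x => by
      simp [← IsScalarTower.algebraMap_apply]
  have hirrE : Irreducible (MvPolynomial.map (algebraMap E (AlgebraicClosure E)) (MvPolynomial.map (algebraMap k E) F)) := by
    refine irreducible_descends (ψ : AlgebraicClosure E →+* AlgebraicClosure k) ?_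
    rw [MvPolynomial.map_map, MvPolynomial.map_map, RingHom.comp_assoc, hcomp]
    exact hirr
  obtain ⟨P, -, hP, hli⟩ := exists_five_ratPoints (MvPolynomial.map (algebraMap k E) F) (hF.map _) hirrE
    (cone_descends F hcone) a ha hFa _ rfl (by
      rintro ⟨L₁, L₂, L₃, h1, h2, h3, hmem⟩
      refine hbT ⟨MvPolynomial.map (ψ : AlgebraicClosure E →+* AlgebraicClosure k) L₁,
        MvPolynomial.map (ψ : AlgebraicClosure E →+* AlgebraicClosure k) L₂,
        MvPolynomial.map (ψ : AlgebraicClosure E →+* AlgebraicClosure k) L₃, h1.map _, h2.map _, h3.map _, ?_⟩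
      obtain ⟨Q, hQ⟩ := Ideal.mem_span_singleton'.mp hmem
      refine Ideal.mem_span_singleton'.mpr ⟨MvPolynomial.map (ψ : AlgebraicClosure E →+* AlgebraicClosure k) Q, ?_⟩
      have h4 := congrArg (MvPolynomial.map (ψ : AlgebraicClosure E →+* AlgebraicClosure k)) hQ
      rw [map_sub, map_mul, map_mul, map_mul, MvPolynomial.map_map, MvPolynomial.map_map, RingHom.comp_assoc,
        hcomp] at h4
      rw [← h4, map_sum]
      congr 1
      refine Finset.sum_congr rfl fun i _ => ?_
      rw [map_mul, MvPolynomial.map_C, MvPolynomial.map_X, MvPolynomial.pderiv_map, MvPolynomial.pderiv_map]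
      congr 2
      exact (hmap i (MvPolynomial.pderiv i F)).symm)
  exact exists_pfaffianRep _ (hF.map _) P hP hli

theorem exists_real_root {f : Polynomial ℝ} (hf : f.Monic) (h3 : f.natDegree = 3) : ∃ x, f.eval x = 0 := by
  obtain ⟨g, hg, hgm, ⟨h, rfl⟩⟩ : ∃ g, Irreducible g ∧ g.Monic ∧ g ∣ f := by
    have hu : ¬ IsUnit f := fun hu => by rw [Polynomial.natDegree_eq_zero_of_isUnit hu] at h3; omega
    exact (Polynomial.exists_monic_irreducible_factor f hu).imp fun g hg => ⟨hg.2.1, hg.1, hg.2.2⟩
  have hh0 : h ≠ 0 := by rintro rfl; simp at h3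
  rw [Polynomial.natDegree_mul hgm.ne_zero hh0] at h3
  have hdeg := hg.natDegree_le_two
  have hpos := hg.natDegree_pos
  rcases (show g.natDegree = 1 ∨ h.natDegree = 1 by omega) with h1 | h1
  · obtain ⟨x, hx⟩ := Polynomial.exists_root_of_degree_eq_one
      (by rw [Polynomial.degree_eq_natDegree hgm.ne_zero, h1]; rfl : g.degree = 1)
    exact ⟨x, by rw [Polynomial.eval_mul, hx.eq_zero, zero_mul]⟩
  · obtain ⟨x, hx⟩ := Polynomial.exists_root_of_degree_eq_one
      (by rw [Polynomial.degree_eq_natDegree hh0, h1]; rfl : h.degree = 1)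
    exact ⟨x, by rw [Polynomial.eval_mul, hx.eq_zero, mul_zero]⟩

theorem exists_root_field {L : Type v} [Field L] [Algebra k L] {f : Polynomial k} (hf : f.Monic)
    (h3 : f.natDegree = 3) {s : L} (hs : Polynomial.aeval s f = 0) :
    ∃ E : IntermediateField k L, FiniteDimensional k ↥E ∧ Module.finrank k ↥E ≤ 3 ∧ ∃ x : ↥E, Polynomial.aeval x f = 0 := by
  have hint : IsIntegral k s := ⟨f, hf, by rwa [← Polynomial.aeval_def]⟩
  refine ⟨IntermediateField.adjoin k {s}, IntermediateField.adjoin.finiteDimensional hint, ?_,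
    ⟨s, IntermediateField.mem_adjoin_simple_self k s⟩, ?_⟩
  · rw [IntermediateField.adjoin.finrank hint, ← h3]
    exact Polynomial.natDegree_le_of_dvd (minpoly.dvd k s hs) hf.ne_zero
  · exact Subtype.ext ((Polynomial.aeval_algHom_apply (IntermediateField.adjoin k {s}).val _ f).symm.trans hs)

end Groth.Agent.Five86

end
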